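import Cfsg.Agent.Lib.Spectrum.SelfThree.Simple
import Mathlib.Data.Nat.Factorial.Basic

/-!
# The index of the normaliser of a largest maximal invariant subgroup
-/

namespace Cfsg.Agent.Lib.Spectrum.SelfThree

open Subgroup

universe u

theorem prod_dvd_of_pairwise {ι : Type*} [DecidableEq ι] (s : Finset ι) (f : ι → ℕ) (m : ℕ)
    (hd : ∀ i ∈ s, f i ∣ m) (hc : ∀ i ∈ s, ∀ j ∈ s, i ≠ j → Nat.Coprime (f i) (f j)) :
    ∏ i ∈ s, f i ∣ m := by
  induction s using Finset.induction_on with
  | empty => simp
  | @insert a s ha ih =>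
    rw [Finset.prod_insert ha]
    refine Nat.Coprime.mul_dvd_of_dvd_of_dvd ?_ (hd a (Finset.mem_insert_self a s))
      (ih (fun i hi => hd i (Finset.mem_insert_of_mem hi))
        fun i hi j hj => hc i (Finset.mem_insert_of_mem hi) j (Finset.mem_insert_of_mem hj))
    exact Nat.Coprime.prod_right fun i hi =>
      hc a (Finset.mem_insert_self a s) i (Finset.mem_insert_of_mem hi) fun e => ha (e ▸ hi)

theorem four_pow_gt {k : ℕ} (hk : 3 ≤ k) : 6 + 6 * k < 4 ^ k := by
  induction k, hk using Nat.le_induction with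
  | base => norm_num
  | succ k hk ih => rw [pow_succ]; omega

theorem seven_pow_gt {k : ℕ} (hk : 1 ≤ k) : 3 + 3 * k < 7 ^ k ∧ 12 + 6 * k < 8 * 7 ^ k := by
  induction k, hk using Nat.le_induction with
  | base => norm_num
  | succ k hk ih => rw [pow_succ]; omega

variable {G : Type u} [Group G] [Finite G] {x : G} (hG : Ctx G) (hx : SC x) (hinv : IsConj x x⁻¹)
include hG hx hinv

theorem card_eq_sixty_or : Nat.card G = 60 ∨ Nat.card G = 168 := by
  classical
  have : Fact (Nat.Prime 2) := ⟨Nat.prime_two⟩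
  obtain ⟨M₀, S, w, hM₀, hS, hpair, hw, hlt⟩ := exists_reps hG hx hinv
  have hne₀ := ne_bot_of_maxInv hG hx hinv hM₀
  set a := Nat.card M₀ with ha
  have ha4 : 4 ≤ a := four_le hG hx hM₀ hne₀
  have ha3 : a % 3 = 1 := hx.card_modEq hM₀.1.1 hM₀.1.2
  have h3a : ¬ 3 ∣ a := hM₀.1.1
  set L := normalizer (M₀ : Set G) with hL
  set n := L.index with hn
  obtain ⟨hw0, hw1, hw2⟩ := hw M₀ hM₀
  obtain ⟨m, hm, hmw, hLc⟩ : ∃ m, (m = 1 ∨ m = 2) ∧ m * w M₀ = 2 ∧ Nat.card L = 3 * m * a := by
    rcases Nat.lt_or_ge (w M₀) 2 with h | h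
    · refine ⟨2, Or.inr rfl, by omega, ?_⟩
      rw [show w M₀ = 1 by omega, mul_one] at hw0
      rw [hw0]
    · refine ⟨1, Or.inl rfl, by omega, ?_⟩
      rw [show w M₀ = 2 by omega] at hw0
      show Nat.card L = 3 * 1 * a
      rw [← hL, ← ha] at hw0
      omega
  have hcard : Nat.card G = m * n * (3 * a) := by
    rw [← L.card_mul_index, hLc, ← hn]; ring
  have hfact : Nat.card G ∣ n.factorial := by
    have hc : (MulAction.toPermHom G (G ⧸ L)).ker = ⊥ := by
      rw [← L.normalCore_eq_ker]
      have := hG.simple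
      rcases L.normalCore_normal.eq_bot_or_eq_top with e | e
      · exact e
      · exact absurd (top_le_iff.1 (e ▸ L.normalCore_le)) (normalizer_ne_top hx hM₀ hG hne₀)
    have := Subgroup.card_dvd_of_injective _ ((MonoidHom.ker_eq_bot_iff _).1 hc)
    rwa [Nat.card_perm] at this
  have hn2 : 2 ≤ n := by
    have h0 : n ≠ 0 := FiniteIndex.index_ne_zero
    have h1 : n ≠ 1 := fun e => normalizer_ne_top hx hM₀ hG hne₀ (index_eq_one.1 (hn ▸ e))
    omega
  obtain ⟨h6, h63⟩ := six_dvd_and hG hx hinv
  have hSne : ∀ K ∈ S, K ≠ ⊥ := fun K hK => ne_bot_of_maxInv hG hx hinv (hS K hK).1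
  have hK0 : ∀ K ∈ S, K ≠ M₀ := fun K hK e => (hS K hK).2.2 (e ▸ IsConjSub.refl M₀)
  set T := insert M₀ S with hT
  have hTmax : ∀ K ∈ T, MaxInv x K := fun K hK => by
    rcases Finset.mem_insert.1 hK with rfl | h
    exacts [hM₀, (hS K h).1]
  have hTne : ∀ K ∈ T, K ≠ ⊥ := fun K hK => ne_bot_of_maxInv hG hx hinv (hTmax K hK)
  have hTnc : ∀ K ∈ T, ∀ K' ∈ T, K ≠ K' → ¬ IsConjSub K K' := by
    intro K hK K' hK' hne
    rcases Finset.mem_insert.1 hK with rfl | h <;> rcases Finset.mem_insert.1 hK' with rfl | h'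
    · exact absurd rfl hne
    · exact (hS K' h').2.2
    · exact fun hc => (hS K h).2.2 hc.symm
    · exact hpair K h K' h' hne
  have hcop : ∀ K ∈ T, ∀ K' ∈ T, K ≠ K' → (Odd (Nat.card K) ∨ Odd (Nat.card K')) →
      Nat.Coprime (Nat.card K) (Nat.card K') := by
    intro K hK K' hK' hne hodd
    refine Nat.coprime_of_dvd fun p hp hd hd' => ?_
    rcases eq_or_ne p 2 with rfl | hp2
    · rcases hodd with h | h
      · exact Nat.not_even_iff_odd.2 h (even_iff_two_dvd.2 hd)
      · exact Nat.not_even_iff_odd.2 h (even_iff_two_dvd.2 hd')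
    · exact hTnc K hK K' hK' hne
        (odd_conj hG hx (hTmax K hK) (hTne K hK) (hTmax K' hK') (hTne K' hK') hp hp2 hd hd')
  have hdvdG : ∀ K : Subgroup G, Nat.card K ∣ m * n * (3 * a) := fun K =>
    hcard ▸ K.card_subgroup_dvd_card
  have hSdvd : ∀ K ∈ S, (Odd (Nat.card K) ∨ Odd a) → Nat.card K ∣ m * n := by
    intro K hK hodd
    refine (Nat.Coprime.mul_right ?_ ?_).dvd_of_dvd_mul_right (hdvdG K)
    · exact ((Nat.Prime.coprime_iff_not_dvd Nat.prime_three).2 (hS K hK).1.1.1).symm
    · exact hcop K (Finset.mem_insert_of_mem hK) M₀ (Finset.mem_insert_self M₀ S) (hK0 K hK) hodd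
  have hodd7 : ∀ K ∈ S, Odd (Nat.card K) → 7 ≤ Nat.card K := by
    intro K hK hodd
    have h1 : Nat.card K % 3 = 1 := hx.card_modEq (hS K hK).1.1.1 (hS K hK).1.1.2
    have h4 := four_le hG hx (hS K hK).1 (hSne K hK)
    obtain ⟨j, hj⟩ := hodd
    omega
  have hwle : ∀ K ∈ S, w K * (Nat.card K - 1) ≤ 2 * (a - 1) := fun K hK =>
    Nat.mul_le_mul (hw K (hS K hK).1).2.2 (Nat.sub_le_sub_right (hS K hK).2.1 1)
  have hsixty : n = 5 → Nat.card G = 60 := by
    intro e
    rw [e] at hfact hcard
    rw [show Nat.factorial 5 = 120 from rfl, hcard] at hfact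
    have hle := Nat.le_of_dvd (by norm_num) hfact
    rcases hm with rfl | rfl
    · have h8 : a ∣ 8 := Nat.dvd_of_mul_dvd_mul_left (show 0 < 15 by norm_num)
        (show 15 * a ∣ 15 * 8 by rw [show 15 * a = 1 * 5 * (3 * a) by ring]; exact hfact)
      have hle8 := Nat.le_of_dvd (by norm_num) h8
      rw [hcard]
      interval_cases a <;> omega
    · exfalso
      have h4 : a ∣ 4 := Nat.dvd_of_mul_dvd_mul_left (show 0 < 30 by norm_num)
        (show 30 * a ∣ 30 * 4 by rw [show 30 * a = 2 * 5 * (3 * a) by ring]; exact hfact)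
      have hle4 := Nat.le_of_dvd (by norm_num) h4
      have : a = 4 := by omega
      rw [hcard, this] at h63
      norm_num at h63
  have height : m = 1 → n = 8 → Odd a → Nat.card G = 168 := by
    intro e1 e hodd
    rw [e1, e] at hcard
    rw [e, show Nat.factorial 8 = 24 * 1680 from rfl, hcard, show 1 * 8 * (3 * a) = 24 * a by ring] at hfact
    have h1680 : a ∣ 48 * 35 := Nat.dvd_of_mul_dvd_mul_left (by norm_num) hfact
    have h35 : a ∣ 35 := by
      refine Nat.Coprime.dvd_of_dvd_mul_left ?_ h1680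
      have h2 : Nat.Coprime a 2 := (Nat.coprime_comm).1
        ((Nat.Prime.coprime_iff_not_dvd Nat.prime_two).2 fun h =>
          Nat.not_even_iff_odd.2 hodd (even_iff_two_dvd.2 h))
      have h3 : Nat.Coprime a 3 := ((Nat.Prime.coprime_iff_not_dvd Nat.prime_three).2 h3a).symm
      simpa using (h2.pow_right 4).mul_right h3
    have hle := Nat.le_of_dvd (by norm_num) h35
    rw [hcard]
    interval_cases a <;> omega
  have hn23 : m = 1 → n % 3 = 2 := by
    intro e
    subst e
    rw [hcard] at h63 h6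
    obtain ⟨j, hj⟩ := h6
    rw [hj, Nat.mul_div_cancel_left _ (by norm_num)] at h63
    have hmul : n * a % 3 = 2 := by
      have : n * a = 2 * j := by linarith
      omega
    rw [Nat.mul_mod, ha3, mul_one, Nat.mod_mod] at hmul
    exact hmul
  by_cases hev : ∀ K ∈ T, ∀ K' ∈ T, 2 ∣ Nat.card K → 2 ∣ Nat.card K' → K = K'
  · -- at most one class of even order
    have hodd : ∀ K ∈ T, ∀ K' ∈ T, K ≠ K' → (Odd (Nat.card K) ∨ Odd (Nat.card K')) := by
      intro K hK K' hK' hne
      by_contra hh
      simp only [not_or, Nat.not_odd_iff_even] at hh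
      exact hne (hev K hK K' hK' hh.1.two_dvd hh.2.two_dvd)
    have hdiv : ∀ K ∈ S, Nat.card K ∣ m * n := fun K hK => hSdvd K hK
      (hodd K (Finset.mem_insert_of_mem hK) M₀ (Finset.mem_insert_self M₀ S) (hK0 K hK))
    have hprod : ∏ K ∈ S, Nat.card K ∣ m * n := prod_dvd_of_pairwise S _ _ hdiv
      fun K hK K' hK' hne => hcop K (Finset.mem_insert_of_mem hK) K' (Finset.mem_insert_of_mem hK') hne
        (hodd K (Finset.mem_insert_of_mem hK) K' (Finset.mem_insert_of_mem hK') hne)
    set k := S.card with hk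
    have hsum : ∑ K ∈ S, w K * (Nat.card K - 1) ≤ k * (2 * (a - 1)) := by
      simpa using Finset.sum_le_card_nsmul S _ _ hwle
    have hb : m * n < 3 * (w M₀ + 2 * k) := by
      by_contra hge
      push Not at hge
      have h1 := Nat.mul_le_mul_right (3 * a) hge
      rw [← hcard] at h1
      obtain ⟨b, hb⟩ : ∃ b, a = b + 1 := ⟨a - 1, by omega⟩
      rw [hb, Nat.add_sub_cancel] at hlt hsum
      rw [hb] at h1
      linarith
    have hpos : 0 < m * n := Nat.mul_pos (by omega) (by omega)
    have h4k : 4 ^ k ≤ m * n := by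
      refine le_trans ?_ (Nat.le_of_dvd hpos hprod)
      exact Finset.pow_card_le_prod S _ 4 fun K hK => four_le hG hx (hS K hK).1 (hSne K hK)
    have hk2 : k ≤ 2 := by
      by_contra hh
      have := four_pow_gt (k := k) (by omega)
      omega
    have hk1 : k ≤ 1 := by
      by_contra hh
      obtain ⟨K, K', hne, hSK⟩ := Finset.card_eq_two.1 (show S.card = 2 by omega)
      have hKS : K ∈ S := by rw [hSK]; simp
      have hKS' : K' ∈ S := by rw [hSK]; simp
      rw [hSK, Finset.prod_pair hne] at hprod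
      have hle := Nat.le_of_dvd hpos hprod
      have h4 := four_le hG hx (hS K hKS).1 (hSne K hKS)
      have h4' := four_le hG hx (hS K' hKS').1 (hSne K' hKS')
      rcases hodd K (Finset.mem_insert_of_mem hKS) K' (Finset.mem_insert_of_mem hKS') hne with h | h
      · have := Nat.mul_le_mul (hodd7 K hKS h) h4'; omega
      · have := Nat.mul_le_mul h4 (hodd7 K' hKS' h); omega
    rcases hm with rfl | rfl
    · -- the normaliser does not invert
      have hn11 : n ≤ 11 := by omega
      have := hn23 rfl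
      have hcases : n = 2 ∨ n = 5 ∨ n = 8 ∨ n = 11 := by omega
      rcases hcases with e | e | e | e
      · exfalso
        rw [e] at hfact hcard
        have := Nat.le_of_dvd (Nat.factorial_pos 2) hfact
        rw [hcard, show Nat.factorial 2 = 2 from rfl] at this
        omega
      · exact Or.inl (hsixty e)
      · refine Or.inr (height rfl e ?_)
        obtain ⟨K, hSK⟩ := Finset.card_eq_one.1 (show S.card = 1 by omega)
        have hKS : K ∈ S := by rw [hSK]; simp
        have hd := hdiv K hKS
        rw [e] at hd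
        have hle := Nat.le_of_dvd (by norm_num) hd
        have h1 : Nat.card K % 3 = 1 := hx.card_modEq (hS K hKS).1.1.1 (hS K hKS).1.1.2
        have h4 := four_le hG hx (hS K hKS).1 (hSne K hKS)
        have heven : 2 ∣ Nat.card K := by
          obtain ⟨i, hi, hi'⟩ := (Nat.dvd_prime_pow Nat.prime_two).1 (show Nat.card K ∣ 2 ^ 3 by simpa using hd)
          rcases i with _ | i
          · rw [hi', pow_zero] at h4; omega
          · exact ⟨2 ^ i, by rw [hi', pow_succ']⟩
        refine (hodd M₀ (Finset.mem_insert_self M₀ S) K (Finset.mem_insert_of_mem hKS)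
          (hK0 K hKS).symm).resolve_right fun h => ?_
        exact Nat.not_even_iff_odd.2 h (even_iff_two_dvd.2 heven)
      · exfalso
        obtain ⟨K, hSK⟩ := Finset.card_eq_one.1 (show S.card = 1 by omega)
        have hKS : K ∈ S := by rw [hSK]; simp
        have hd := hdiv K hKS
        rw [e, one_mul] at hd
        have h4 := four_le hG hx (hS K hKS).1 (hSne K hKS)
        have h1 : Nat.card K % 3 = 1 := hx.card_modEq (hS K hKS).1.1.1 (hS K hKS).1.1.2
        rcases (Nat.dvd_prime (by norm_num : Nat.Prime 11)).1 hd with h | h <;> omega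
    · exfalso
      have hn4 : n ≤ 4 := by omega
      have := Nat.le_of_dvd (Nat.factorial_pos n) hfact
      rw [hcard] at this
      interval_cases n <;> simp [Nat.factorial] at this <;> omega
  · -- two classes of even order
    push Not at hev
    obtain ⟨A, hA, A', hA', hAev, hAev', hne⟩ := hev
    have heven : ∀ K ∈ T, 2 ∣ Nat.card K → K = A ∨ K = A' := by
      intro K hK hKev
      by_contra hh
      simp only [not_or] at hh
      refine not_three_even hG hx ![K, A, A'] ?_ ?_ ?_ ?_
      · intro i; fin_cases i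
        exacts [hTmax K hK, hTmax A hA, hTmax A' hA']
      · intro i; fin_cases i
        exacts [hTne K hK, hTne A hA, hTne A' hA']
      · intro i j hij g e
        fin_cases i <;> fin_cases j <;> simp at e hij <;>
          first
            | exact hTnc K hK A hA hh.1 ⟨g, e⟩
            | exact hTnc K hK A' hA' hh.2 ⟨g, e⟩
            | exact hTnc A hA K hK (Ne.symm hh.1) ⟨g, e⟩
            | exact hTnc A hA A' hA' hne ⟨g, e⟩
            | exact hTnc A' hA' K hK (Ne.symm hh.2) ⟨g, e⟩
            | exact hTnc A' hA' A hA (Ne.symm hne) ⟨g, e⟩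
      · intro i; fin_cases i
        exacts [hKev, hAev, hAev']
    have hfacts : ∀ K ∈ T, 2 ∣ Nat.card K → w K = 1 ∧ 8 ∣ Nat.card G := by
      intro K hK hKev
      obtain ⟨K', hK', hK'ev, hne'⟩ : ∃ K' ∈ T, 2 ∣ Nat.card K' ∧ K ≠ K' := by
        rcases heven K hK hKev with rfl | rfl
        exacts [⟨A', hA', hAev', hne⟩, ⟨A, hA, hAev, Ne.symm hne⟩]
      obtain ⟨-, h6K, h8⟩ := two_even hG hx (hTmax K hK) (hTmax K' hK') (hTne K hK) (hTne K' hK')
        (fun g e => hTnc K hK K' hK' hne' ⟨g, e⟩) hKev hK'ev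
      obtain ⟨hwK, hwK1, hwK2⟩ := hw K (hTmax K hK)
      rw [h6K] at hwK
      refine ⟨?_, h8⟩
      have := Nat.card_pos (α := K)
      exact Nat.eq_of_mul_eq_mul_left (show 0 < 6 * Nat.card K by omega) (by rw [hwK, mul_one])
    set O := S.filter (fun K : Subgroup G => ¬ 2 ∣ Nat.card K) with hO
    set E := S.filter (fun K : Subgroup G => 2 ∣ Nat.card K) with hE
    set k := O.card with hk
    have hoddO : ∀ K ∈ O, Odd (Nat.card K) := fun K hK => by
      rw [← Nat.not_even_iff_odd, even_iff_two_dvd]; exact (Finset.mem_filter.1 hK).2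
    have hprod : ∏ K ∈ O, Nat.card K ∣ m * n := prod_dvd_of_pairwise O _ _
      (fun K hK => hSdvd K (Finset.mem_filter.1 hK).1 (Or.inl (hoddO K hK)))
      fun K hK K' hK' hne => hcop K (Finset.mem_insert_of_mem (Finset.mem_filter.1 hK).1)
        K' (Finset.mem_insert_of_mem (Finset.mem_filter.1 hK').1) hne (Or.inl (hoddO K hK))
    have h7k : 7 ^ k ≤ ∏ K ∈ O, Nat.card K := Finset.pow_card_le_prod O _ 7 fun K hK =>
      hodd7 K (Finset.mem_filter.1 hK).1 (hoddO K hK)
    have hpos : 0 < m * n := Nat.mul_pos (by omega) (by omega)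
    have hsumO : ∑ K ∈ O, w K * (Nat.card K - 1) ≤ k * (2 * (a - 1)) := by
      simpa using Finset.sum_le_card_nsmul O _ _ fun K hK => hwle K (Finset.mem_filter.1 hK).1
    have hsumE : ∑ K ∈ E, w K * (Nat.card K - 1) ≤ E.card * (a - 1) := by
      refine le_trans (Finset.sum_le_card_nsmul E _ (a - 1) fun K hK => ?_) (le_of_eq (by simp))
      obtain ⟨hKS, hKev⟩ := Finset.mem_filter.1 hK
      rw [(hfacts K (Finset.mem_insert_of_mem hKS) hKev).1, one_mul]
      exact Nat.sub_le_sub_right (hS K hKS).2.1 1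
    have hsplit : ∑ K ∈ S, w K * (Nat.card K - 1) =
        ∑ K ∈ E, w K * (Nat.card K - 1) + ∑ K ∈ O, w K * (Nat.card K - 1) :=
      (Finset.sum_filter_add_sum_filter_not S _ _).symm
    have hbound : ∀ e, E.card ≤ e → m * n < 3 * (w M₀ + e + 2 * k) := by
      intro e he
      by_contra hge
      push Not at hge
      have h1 := Nat.mul_le_mul_right (3 * a) hge
      rw [← hcard] at h1
      obtain ⟨b, hb⟩ : ∃ b, a = b + 1 := ⟨a - 1, by omega⟩
      rw [hsplit, hb, Nat.add_sub_cancel] at hlt
      rw [hb, Nat.add_sub_cancel] at hsumE hsumO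
      rw [hb] at h1
      have := Nat.mul_le_mul_right b he
      linarith
    by_cases ha2 : 2 ∣ a
    · exfalso
      have hE1 : E.card ≤ 1 := by
        rw [Finset.card_le_one]
        intro K hK K' hK'
        obtain ⟨hKS, hKev⟩ := Finset.mem_filter.1 hK
        obtain ⟨hKS', hKev'⟩ := Finset.mem_filter.1 hK'
        have h0 := heven M₀ (Finset.mem_insert_self M₀ S) ha2
        have h1 := heven K (Finset.mem_insert_of_mem hKS) hKev
        have h2 := heven K' (Finset.mem_insert_of_mem hKS') hKev'
        have := hK0 K hKS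
        have := hK0 K' hKS'
        rcases h0 with h0 | h0 <;> rcases h1 with h1 | h1 <;> rcases h2 with h2 | h2 <;> subst h0 <;>
          first | exact h1.trans h2.symm | exact absurd h1 ‹_› | exact absurd h2 ‹_›
      have hb := hbound 1 hE1
      have hw0' : w M₀ = 1 := (hfacts M₀ (Finset.mem_insert_self M₀ S) ha2).1
      rw [hw0', mul_one] at hmw
      subst hmw
      rw [hw0'] at hb
      rcases Nat.eq_zero_or_pos k with hk0 | hk0
      · rw [hk0] at hb
        have hn' : n = 2 := by omega
        rw [hn'] at hfact hcard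
        have := Nat.le_of_dvd (Nat.factorial_pos 2) hfact
        rw [hcard, show Nat.factorial 2 = 2 from rfl] at this
        omega
      · have hdn : ∏ K ∈ O, Nat.card K ∣ n := by
          refine Nat.Coprime.dvd_of_dvd_mul_left ?_ hprod
          exact Nat.Coprime.prod_left fun K hK => (Nat.coprime_comm).1
            ((Nat.Prime.coprime_iff_not_dvd Nat.prime_two).2 (Finset.mem_filter.1 hK).2)
        have := Nat.le_of_dvd (by omega) hdn
        have := (seven_pow_gt hk0).1
        omega
    · have hE2 : E.card ≤ 2 := by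
        calc E.card ≤ ({A, A'} : Finset (Subgroup G)).card := Finset.card_le_card fun K hK => by
              obtain ⟨hKS, hKev⟩ := Finset.mem_filter.1 hK
              simpa using heven K (Finset.mem_insert_of_mem hKS) hKev
          _ ≤ 2 := Finset.card_le_two
      have hb := hbound 2 hE2
      have h8 : 8 ∣ m * n := by
        have h8' := (hfacts A hA hAev).2
        rw [hcard] at h8'
        refine Nat.Coprime.dvd_of_dvd_mul_right ?_ h8'
        have h2a : Nat.Coprime 2 (3 * a) :=
          Nat.Coprime.mul_right (by norm_num) ((Nat.Prime.coprime_iff_not_dvd Nat.prime_two).2 ha2)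
        simpa using h2a.pow_left 3
      have hk0 : k = 0 := by
        by_contra hk0
        have h8p : 8 * ∏ K ∈ O, Nat.card K ∣ m * n := by
          refine Nat.Coprime.mul_dvd_of_dvd_of_dvd ?_ h8 hprod
          refine Nat.Coprime.prod_right fun K hK => ?_
          simpa using ((Nat.Prime.coprime_iff_not_dvd Nat.prime_two).2 (Finset.mem_filter.1 hK).2).pow_left 3
        have := Nat.le_of_dvd hpos h8p
        have := (seven_pow_gt (k := k) (by omega)).2
        omega
      rw [hk0] at hb
      obtain ⟨j, hj⟩ := h8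
      have hj1 : j = 1 := by
        rcases j with _ | _ | j
        · omega
        · rfl
        · omega
      rw [hj1, mul_one] at hj
      rcases hm with rfl | rfl
      · exact Or.inr (height rfl (by omega) (Nat.not_even_iff_odd.1 fun h => ha2 h.two_dvd))
      · exfalso
        have hn' : n = 4 := by omega
        rw [hn'] at hfact hcard
        have := Nat.le_of_dvd (Nat.factorial_pos 4) hfact
        rw [hcard, show Nat.factorial 4 = 24 from rfl] at this
        omega

end Cfsg.Agent.Lib.Spectrum.SelfThree
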