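import Cfsg.Agent.Lib.Spectrum.SelfThree.Kernel
import Cfsg.Agent.Lib.Spectrum.SelfThree.Arith

/-!
# Groups with a self-centralising element of order three

Such a group has a normal subgroup of order prime to three and index `3` or `6`, or an elementary
abelian normal `2`-subgroup with quotient `A₅`, or is simple of order `168`.
-/

namespace Cfsg.Agent.Lib.Spectrum.SelfThree

open Subgroup

universe u

variable {G : Type u} [Group G] [Finite G] {x : G}

/-! ### The two-group under `A₅` -/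

theorem TwoInv.commutator_conj {y : G} {P : Subgroup G} (T : TwoInv y P) {v w : G} (hv : v ∈ P)
    (hw : w ∈ P) :
    (y * v * y⁻¹) * w * (y * v * y⁻¹)⁻¹ * w⁻¹ = y⁻¹ * (v * w * v⁻¹ * w⁻¹) * y := by
  let c : G → G → G := fun p q => p * q * p⁻¹ * q⁻¹
  let σ : G → G := fun p => y * p * y⁻¹
  have hσ : ∀ {p}, p ∈ P → σ p ∈ P := fun hp => T.conj_mem hp
  have hcentral : ∀ {p q r}, p ∈ P → q ∈ P → r ∈ P → r * c p q = c p q * r :=
    fun hp hq hr => (mem_Zc.1 (T.commutator_mem hp hq)).2 _ hr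
  have hcr : ∀ {p q r}, p ∈ P → q ∈ P → r ∈ P → c p (q * r) = c p q * c p r := by
    intro p q r hp hq hr
    calc c p (q * r) = c p q * (q * c p r * q⁻¹) := by simp only [c]; group
      _ = c p q * c p r := by rw [hcentral hp hr hq, mul_inv_cancel_right]
  have hcl : ∀ {p q r}, p ∈ P → q ∈ P → r ∈ P → c (p * r) q = c r q * c p q := by
    intro p q r hp hq hr
    calc c (p * r) q = (p * c r q * p⁻¹) * c p q := by simp only [c]; group
      _ = c r q * c p q := by rw [hcentral hr hq hp, mul_inv_cancel_right]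
  have hself : ∀ {p}, p ∈ P → c p (σ p) = 1 := by
    intro p hp
    have h1 := T.norm_eq_one hp
    have h2 := (⟨T.sc.inv, T.two, inv_mem T.norm⟩ : TwoInv y⁻¹ P).norm_eq_one hp
    have hpow : y * y * y = 1 := by
      rw [← T.sc.pow_three, pow_succ, pow_two]
    have e1 : y⁻¹ * p * y⁻¹⁻¹ = σ (σ p) := by
      simp only [σ]
      calc y⁻¹ * p * y⁻¹⁻¹ = y⁻¹ * p * y := by rw [inv_inv]
        _ = (y * y * y) * (y⁻¹ * p * y) * (y * y * y)⁻¹ := by rw [hpow]; group
        _ = _ := by group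
    have e2 : y⁻¹ * (σ (σ p)) * y⁻¹⁻¹ = σ p := by simp only [σ]; group
    rw [e1, e2] at h2
    have ha : σ p * σ (σ p) = σ (σ p) * σ p := by
      have h1' : σ p * σ (σ p) = p⁻¹ := eq_inv_of_mul_eq_one_right (by rw [← mul_assoc]; exact h1)
      have h2' : σ (σ p) * σ p = p⁻¹ := eq_inv_of_mul_eq_one_right (by rw [← mul_assoc]; exact h2)
      rw [h1', h2']
    have hb : σ (p * σ p) = σ (σ p * p) := by
      simp only [σ] at ha ⊢
      calc y * (p * (y * p * y⁻¹)) * y⁻¹ = (y * p * y⁻¹) * (y * (y * p * y⁻¹) * y⁻¹) := by group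
        _ = _ := ha
        _ = y * (y * p * y⁻¹ * p) * y⁻¹ := by group
    have hc : p * σ p = σ p * p := mul_left_cancel (mul_right_cancel hb)
    show p * σ p * p⁻¹ * (σ p)⁻¹ = 1
    rw [hc]; group
  have hA : ∀ {p q}, p ∈ P → q ∈ P → c p (σ q) = c (σ p) q := by
    intro p q hp hq
    have e : σ (p * q) = σ p * σ q := by simp only [σ]; group
    have h := hself (mul_mem hp hq)
    rw [e, hcl hp (mul_mem (hσ hp) (hσ hq)) hq, hcr hq (hσ hp) (hσ hq), hcr hp (hσ hp) (hσ hq),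
      hself hp, hself hq, mul_one, one_mul] at h
    calc c p (σ q) = (c q (σ p))⁻¹ := eq_inv_of_mul_eq_one_right h
      _ = c (σ p) q := by simp only [c]; group
  have hB : ∀ {p q}, p ∈ P → q ∈ P → c (σ (σ p)) q = σ (c p q) := by
    intro p q hp hq
    rw [← hA (hσ hp) hq]
    simp only [σ, c]; group
  have h := hB (hσ (hσ hv)) hw
  rw [hB hv hw] at h
  have hpow : y * y * y = 1 := by
    rw [← T.sc.pow_three, pow_succ, pow_two]
  have e : σ (σ (σ (σ v))) = σ v := by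
    simp only [σ]
    calc y * (y * (y * (y * v * y⁻¹) * y⁻¹) * y⁻¹) * y⁻¹
        = (y * y * y) * (y * v * y⁻¹) * (y * y * y)⁻¹ := by group
      _ = y * v * y⁻¹ := by rw [hpow]; group
  rw [e] at h
  show c (σ v) w = y⁻¹ * c v w * y
  rw [h]
  simp only [σ]
  calc y * (y * c v w * y⁻¹) * y⁻¹ = y⁻¹ * ((y * y * y) * c v w * (y * y * y)⁻¹) * y := by group
    _ = _ := by rw [hpow]; group

theorem TwoInv.commutator_conj' {y : G} {P : Subgroup G} (T : TwoInv y P) {v w : G} (hv : v ∈ P)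
    (hw : w ∈ P) :
    v * (y * w * y⁻¹) * v⁻¹ * (y * w * y⁻¹)⁻¹ = y⁻¹ * (v * w * v⁻¹ * w⁻¹) * y := by
  calc v * (y * w * y⁻¹) * v⁻¹ * (y * w * y⁻¹)⁻¹
      = ((y * w * y⁻¹) * v * (y * w * y⁻¹)⁻¹ * v⁻¹)⁻¹ := by group
    _ = _ := by rw [T.commutator_conj hw hv]; group

theorem commute_of_two (hx : SC x) {K : Subgroup G} [K.Normal] [IsSimpleGroup (G ⧸ K)]
    (hK2 : IsPGroup 2 K) {y₁ y₂ : G} (h₁ : SC y₁) (h₂ : SC y₂)
    (hne : (y₁ : G ⧸ K) * y₂ ≠ (y₂ : G ⧸ K) * y₁) : IsMulCommutative K := by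
  have hn : ∀ g : G, g ∈ normalizer (K : Set G) := fun g => by
    rw [normalizer_eq_top]; exact mem_top g
  have T : TwoInv x K := ⟨hx, hK2, hn x⟩
  have T₁ : TwoInv y₁ K := ⟨h₁, hK2, hn y₁⟩
  have T₂ : TwoInv y₂ K := ⟨h₂, hK2, hn y₂⟩
  set g := y₁ * y₂ * y₁⁻¹ * y₂⁻¹ with hg
  have hgK : g ∉ K := by
    intro h
    have := (QuotientGroup.eq_one_iff g).2 h
    rw [hg, QuotientGroup.mk_mul, QuotientGroup.mk_mul, QuotientGroup.mk_mul, QuotientGroup.mk_inv,
      QuotientGroup.mk_inv] at this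
    exact hne (mul_inv_eq_iff_eq_mul.1 (mul_inv_eq_one.1 this))
  have hfix : ∀ v ∈ K, ∀ w ∈ K, g * (v * w * v⁻¹ * w⁻¹) = (v * w * v⁻¹ * w⁻¹) * g := by
    intro v hv w hw
    have e₁ := T₁.commutator_conj hv (T₂.conj_mem hw)
    rw [T₂.commutator_conj' hv hw, T₂.commutator_conj' (T₁.conj_mem hv) hw,
      T₁.commutator_conj hv hw] at e₁
    calc g * (v * w * v⁻¹ * w⁻¹)
        = (y₁ * y₂) * (y₁⁻¹ * (y₂⁻¹ * (v * w * v⁻¹ * w⁻¹) * y₂) * y₁) * (y₁⁻¹ * y₂⁻¹) := by
          rw [hg]; group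
      _ = (v * w * v⁻¹ * w⁻¹) * g := by rw [← e₁, hg]; group
  have hle : ⁅K, K⁆ ≤ K := commutator_le.2 fun a ha b hb => by
    rw [commutatorElement_def]; exact mul_mem (mul_mem (mul_mem ha hb) (inv_mem ha)) (inv_mem hb)
  have hZ : ⁅K, K⁆ ≤ Zc K := commutator_le.2 fun a ha b hb => T.commutator_mem ha hb
  have hC : ⁅K, K⁆ ≤ Subgroup.centralizer ({g} : Set G) := commutator_le.2 fun a ha b hb =>
    mem_centralizer_singleton_iff.2 (hfix a ha b hb).symm
  have hbot : ⁅K, K⁆ = ⊥ := eq_bot_of_centralizes hx T.three_not_dvd hle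
    (fun k hk w hw => ((mem_Zc.1 (hZ hw)).2 k hk).symm) hgK
    (fun w hw => (mem_centralizer_singleton_iff.1 (hC hw)).symm)
  refine ⟨⟨fun a b => Subtype.ext ?_⟩⟩
  have h := commutator_mem_commutator a.2 b.2
  rw [hbot, mem_bot] at h
  exact commutatorElement_eq_one_iff_mul_comm.1 h

/-- A nilpotent group whose abelianisation has exponent two is a two-group. -/
theorem isPGroup_two_of_sq {K : Type*} [Group K] [Finite K] (hK : Group.IsNilpotent K)
    (h : ∀ k : K, k ^ 2 ∈ commutator K) : IsPGroup 2 K := by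
  have : Fact (Nat.Prime 2) := ⟨Nat.prime_two⟩
  obtain ⟨P⟩ : Nonempty (Sylow 2 K) := inferInstance
  have hq : IsPGroup 2 (K ⧸ commutator K) := fun q => by
    obtain ⟨k, rfl⟩ := QuotientGroup.mk_surjective q
    exact ⟨1, by rw [pow_one, ← QuotientGroup.mk_pow]; exact (QuotientGroup.eq_one_iff _).2 (h k)⟩
  obtain ⟨j, hj⟩ := hq.exists_card_eq
  have hcop : Nat.Coprime (P : Subgroup K).index (2 ^ j) :=
    (Nat.Coprime.pow_right _ ((Nat.prime_two.coprime_iff_not_dvd.2 P.not_dvd_index).symm))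
  have hidx : ((P : Subgroup K) ⊔ commutator K).index = 1 :=
    Nat.eq_one_of_dvd_coprimes hcop (index_dvd_of_le le_sup_left)
      (hj ▸ index_dvd_of_le le_sup_right)
  have htop : (P : Subgroup K) ⊔ frattini K = ⊤ :=
    top_unique ((index_eq_one.1 hidx).ge.trans
      (sup_le_sup_left (CharP.commutator_le_frattini hK) _))
  have hP := frattini_nongenerating htop
  intro k
  obtain ⟨i, hi⟩ := P.isPGroup' ⟨k, hP ▸ mem_top k⟩
  exact ⟨i, congrArg Subtype.val hi⟩

variable (hx : SC x) {K : Subgroup G} [K.Normal] (hK : ¬ 3 ∣ Nat.card K)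
include hx hK

theorem sq_mem_commutator [IsSimpleGroup (G ⧸ K)] {A T : G ⧸ K} (ha3 : A ^ 3 = 1) (ha1 : A ≠ 1)
    (ht2 : T ^ 2 = 1) (ht1 : T ≠ 1) (hat3 : (A * T) ^ 3 = 1) (hat1 : A * T ≠ 1) :
    ∀ k ∈ K, k ^ 2 ∈ ⁅K, K⁆ := by
  obtain ⟨a, rfl⟩ := QuotientGroup.mk_surjective A
  obtain ⟨t, rfl⟩ := QuotientGroup.mk_surjective T
  have hle : ⁅K, K⁆ ≤ K := commutator_le.2 fun a ha b hb => by
    rw [commutatorElement_def]; exact mul_mem (mul_mem (mul_mem ha hb) (inv_mem ha)) (inv_mem hb)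
  set D := ⁅K, K⁆
  set K₁ := K.map (QuotientGroup.mk' D)
  have : K₁.Normal := Subgroup.Normal.map ‹K.Normal› _ (QuotientGroup.mk'_surjective D)
  have hx₁ : SC (x : G ⧸ D) := hx.quotient fun h => hK (h.trans (card_dvd_of_le hle))
  have hK₁ : ¬ 3 ∣ Nat.card K₁ := fun h => hK (h.trans (card_map_dvd _ _))
  have : IsMulCommutative K₁ := ⟨⟨by
    rintro ⟨_, p, hp, rfl⟩ ⟨_, q, hq, rfl⟩
    refine Subtype.ext (commutatorElement_eq_one_iff_mul_comm.1 ?_)
    rw [← map_commutatorElement]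
    exact (QuotientGroup.eq_one_iff _).2 (commutator_mem_commutator hp hq)⟩⟩
  let e : (G ⧸ D) ⧸ K₁ ≃* G ⧸ K := QuotientGroup.quotientQuotientEquivQuotient D K hle
  have : IsSimpleGroup ((G ⧸ D) ⧸ K₁) := e.isSimpleGroup
  have he : ∀ g : G, e ((g : G ⧸ D) : (G ⧸ D) ⧸ K₁) = (g : G ⧸ K) := fun g => rfl
  have h := sq_eq_one hx₁ hK₁ (a := (a : G ⧸ D)) (t := (t : G ⧸ D))
    (e.injective (by rw [map_pow, he, ha3, map_one]))
    (fun h => ha1 (by rw [← he, h, map_one]))
    (e.injective (by rw [map_pow, he, ht2, map_one]))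
    (fun h => ht1 (by rw [← he, h, map_one]))
    (e.injective (by rw [map_pow, ← QuotientGroup.mk_mul, he, map_one]; exact hat3))
    (fun h => hat1 (by
      have := congrArg e h
      rwa [← QuotientGroup.mk_mul, he, map_one] at this))
  intro k hk
  have := h _ (mem_map_of_mem (QuotientGroup.mk' D) hk)
  rwa [← map_pow, QuotientGroup.mk'_apply, QuotientGroup.eq_one_iff] at this

/-- Elementary abelian, given elements generating `A₄` in the quotient. -/
theorem exp_two [IsSimpleGroup (G ⧸ K)] {A T : G ⧸ K} (ha3 : A ^ 3 = 1) (ha1 : A ≠ 1)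
    (ht2 : T ^ 2 = 1) (ht1 : T ≠ 1) (hat3 : (A * T) ^ 3 = 1) (hat1 : A * T ≠ 1) :
    IsMulCommutative K ∧ ∀ k ∈ K, k ^ 2 = 1 := by
  have hnil : Group.IsNilpotent K :=
    Inv.isNilpotent hx ⟨hK, by rw [normalizer_eq_top]; exact mem_top x⟩
  have h2 : IsPGroup 2 K := isPGroup_two_of_sq hnil fun k => by
    have h := sq_mem_commutator hx hK ha3 ha1 ht2 ht1 hat3 hat1 k k.2
    rw [← map_subtype_commutator] at h
    obtain ⟨l, hl, e⟩ := h
    have e' : l = k ^ 2 := Subtype.ext (by rw [Subgroup.coe_pow]; exact e)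
    exact e' ▸ hl
  obtain ⟨a, rfl⟩ := QuotientGroup.mk_surjective A
  obtain ⟨t, rfl⟩ := QuotientGroup.mk_surjective T
  obtain ⟨y₁, hy₁, e₁⟩ := exists_sc_lift hx hK ha3 ha1
  obtain ⟨y₂, hy₂, e₂⟩ := exists_sc_lift hx hK (g := a * t)
    (by rw [QuotientGroup.mk_mul]; exact hat3) (by rw [QuotientGroup.mk_mul]; exact hat1)
  have : IsMulCommutative K := by
    refine commute_of_two hx h2 hy₁ hy₂ ?_
    rw [e₁, e₂, QuotientGroup.mk_mul]
    intro h
    have hc : (a : G ⧸ K) * t = t * a := mul_left_cancel (h.trans (mul_assoc _ _ _))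
    have hA : ((a : G ⧸ K) * t) ^ 3 = (t : G ⧸ K) ^ 3 := by
      rw [(show Commute (a : G ⧸ K) t from hc).mul_pow, ha3, one_mul]
    rw [hat3, pow_succ, ht2, one_mul] at hA
    exact ht1 hA.symm
  exact ⟨this, sq_eq_one hx hK ha3 ha1 ht2 ht1 (by rw [QuotientGroup.mk_mul]; exact hat3)
    (by rw [QuotientGroup.mk_mul]; exact hat1)⟩

theorem exp_two_of_sixty [IsSimpleGroup (G ⧸ K)] (h60 : Nat.card (G ⧸ K) = 60) :
    IsMulCommutative K ∧ ∀ k ∈ K, k ^ 2 = 1 := by
  have : Fact (Nat.Prime 2) := ⟨Nat.prime_two⟩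
  set z : G ⧸ K := (x : G ⧸ K)
  have hz : SC z := hx.quotient hK
  obtain ⟨Y, hY, hY4⟩ := exists_inv_four h60 hz
  have T : TwoInv z Y := ⟨hz, IsPGroup.of_card (n := 2) (by rw [hY4]; norm_num), hY.2⟩
  have hYb : Y ≠ ⊥ := fun e => by
    rw [e, Subgroup.card_bot] at hY4
    norm_num at hY4
  obtain ⟨t, htY, ht1⟩ : ∃ t ∈ Y, t ≠ 1 := by
    obtain ⟨a, ha⟩ := Subgroup.ne_bot_iff_exists_ne_one.1 hYb
    exact ⟨a, a.2, fun e => ha (Subtype.ext e)⟩
  refine exp_two hx hK (A := z) (T := t) hz.pow_three hz.ne_one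
    (by rw [pow_two]; exact T.sq_eq_one hY4 htY) ht1 ?_ fun e => ?_
  · calc (z * t) ^ 3 = z * (t * z) ^ 3 * z⁻¹ := by simp only [pow_succ, pow_zero, one_mul]; group
      _ = 1 := by rw [hz.coset_pow_three hY.1 hY.2 htY, mul_one, mul_inv_cancel]
  · have hzY : z ∈ Y := by rw [eq_inv_of_mul_eq_one_left e]; exact inv_mem htY
    exact hY.1 (hz.ord ▸ orderOf_dvd_natCard Y hzY)

omit hx hK in
theorem psl_seven_elems : ∃ A T C : Matrix.ProjectiveSpecialLinearGroup (Fin 2) (ZMod 7),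
    A ^ 3 = 1 ∧ A ≠ 1 ∧ T ^ 2 = 1 ∧ T ≠ 1 ∧ (A * T) ^ 3 = 1 ∧ A * T ≠ 1 ∧ C ^ 7 = 1 ∧ C ≠ 1 ∧
      A * C = C ^ 2 * A := by
  let n : Matrix.SpecialLinearGroup (Fin 2) (ZMod 7) := ⟨!![6, 0; 0, 6], by decide⟩
  let π := QuotientGroup.mk' (Subgroup.center (Matrix.SpecialLinearGroup (Fin 2) (ZMod 7)))
  have hn : π n = 1 := (QuotientGroup.eq_one_iff n).2
    (Matrix.SpecialLinearGroup.mem_center_iff.2 ⟨6, by decide, by decide⟩)
  have hne : ∀ (m B : Matrix.SpecialLinearGroup (Fin 2) (ZMod 7)), B * m ≠ m * B → π m ≠ 1 :=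
    fun m B hB h => hB (Subgroup.mem_center_iff.1 ((QuotientGroup.eq_one_iff m).1 h) B)
  let a : Matrix.SpecialLinearGroup (Fin 2) (ZMod 7) := ⟨!![4, 0; 0, 2], by decide⟩
  let t : Matrix.SpecialLinearGroup (Fin 2) (ZMod 7) := ⟨!![4, 1; 4, 3], by decide⟩
  let g : Matrix.SpecialLinearGroup (Fin 2) (ZMod 7) := ⟨!![1, 1; 0, 1], by decide⟩
  refine ⟨π a, π t, π g, ?_, hne a g (by decide +kernel), ?_, hne t g (by decide +kernel), ?_, ?_, ?_,
    hne g t (by decide +kernel), ?_⟩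
  · rw [← map_pow, show a ^ 3 = 1 by decide +kernel, map_one]
  · rw [← map_pow, show t ^ 2 = n from Subtype.ext (by decide +kernel), hn]
  · rw [← map_mul, ← map_pow, show (a * t) ^ 3 = n from Subtype.ext (by decide +kernel), hn]
  · rw [← map_mul]; exact hne _ g (by decide +kernel)
  · rw [← map_pow, show g ^ 7 = 1 by decide +kernel, map_one]
  · rw [← map_mul, ← map_pow, ← map_mul, show a * g = g ^ 2 * a by decide +kernel]

theorem eq_bot_of_oneSixtyEight [IsSimpleGroup (G ⧸ K)] (h : Nat.card (G ⧸ K) = 168) : K = ⊥ := by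
  have : Fact (Nat.Prime 7) := ⟨by norm_num⟩
  obtain ⟨e⟩ := Cfsg.Agent.S0495.result h (F := ZMod 7) (ZMod.card 7)
  obtain ⟨A, T, C, ha3, ha1, ht2, ht1, hat3, hat1, hg7, hg1, hag⟩ := psl_seven_elems
  obtain ⟨hc, hexp⟩ := exp_two hx hK (A := e.symm A) (T := e.symm T)
    (by rw [← map_pow, ha3, map_one]) (fun h => ha1 ((EquivLike.injective e.symm) (h.trans (map_one _).symm)))
    (by rw [← map_pow, ht2, map_one]) (fun h => ht1 ((EquivLike.injective e.symm) (h.trans (map_one _).symm)))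
    (by rw [← map_mul, ← map_pow, hat3, map_one])
    (fun h => hat1 ((EquivLike.injective e.symm) (by rw [map_mul, h, map_one])))
  obtain ⟨a, ea⟩ := QuotientGroup.mk_surjective (e.symm A)
  obtain ⟨g, eg⟩ := QuotientGroup.mk_surjective (e.symm C)
  exact eq_bot_of_seven hx hK hexp (a := a) (g := g) (by rw [ea, ← map_pow, ha3, map_one])
    (by rw [ea]; exact fun h => ha1 ((EquivLike.injective e.symm) (h.trans (map_one _).symm)))
    (by rw [eg, ← map_pow, hg7, map_one])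
    (by rw [eg]; exact fun h => hg1 ((EquivLike.injective e.symm) (h.trans (map_one _).symm)))
    (by rw [ea, eg, mul_inv_eq_iff_eq_mul, ← map_mul, ← map_pow, ← map_mul, hag])

/-! ### The induction -/

omit hK in
/-- Burnside: a normal complement if `x` is not conjugate to its inverse. -/
theorem exists_complement (hn : ¬ IsConj x x⁻¹) :
    ∃ N : Subgroup G, N.Normal ∧ ¬ 3 ∣ Nat.card N ∧ N.index = 3 := by
  have : Fact (Nat.Prime 3) := ⟨Nat.prime_three⟩
  obtain ⟨P, hP⟩ := hx.exists_sylow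
  have hNC : normalizer (P : Set G) ≤ centralizer (P : Set G) := by
    intro g hg
    have hg' : g ∈ normalizer ((zpowers x : Subgroup G) : Set G) := by rw [← hP]; exact hg
    rcases hx.normalizer_cases hg' with e | e
    · refine mem_centralizer_iff.2 fun p hp => ?_
      obtain ⟨i, rfl⟩ := mem_zpowers_iff.1 (hP ▸ hp : p ∈ zpowers x)
      exact ((show Commute x g from (mul_inv_eq_iff_eq_mul.1 e).symm).zpow_left i).eq
    · exact absurd (isConj_iff.2 ⟨g, e⟩) hn
  refine ⟨(MonoidHom.transferSylow P hNC).ker, inferInstance,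
    MonoidHom.not_dvd_card_ker_transferSylow P hNC, ?_⟩
  rw [(MonoidHom.ker_transferSylow_isComplement' P hNC).symm.index_eq_card, hP, hx.card_zpowers]

omit hx hK in
theorem exists_maximal_kernel (G : Type u) [Group G] [Finite G] :
    ∃ K : Subgroup G, K.Normal ∧ ¬ 3 ∣ Nat.card K ∧
      ∀ L : Subgroup G, L.Normal → ¬ 3 ∣ Nat.card L → K ≤ L → L ≤ K := by
  obtain ⟨K, -, hK⟩ := Finite.exists_le_maximal (p := fun K : Subgroup G => K.Normal ∧ ¬ 3 ∣ Nat.card K)
    (a := ⊥) ⟨inferInstance, by rw [Subgroup.card_bot]; norm_num⟩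
  exact ⟨K, hK.1.1, hK.1.2, fun L h1 h2 hle => hK.2 ⟨h1, h2⟩ hle⟩

omit hK in
/-- With no nontrivial normal subgroup of order prime to three: order six, or simple. -/
theorem card_six_or_simple (hinv : IsConj x x⁻¹)
    (hmin : ∀ L : Subgroup G, L.Normal → ¬ 3 ∣ Nat.card L → L = ⊥) :
    Nat.card G = 6 ∨ IsSimpleGroup G := by
  by_cases hs : ∃ N : Subgroup G, N.Normal ∧ N ≠ ⊥ ∧ N ≠ ⊤
  swap
  · right
    have : Nontrivial G := ⟨⟨x, 1, hx.ne_one⟩⟩
    refine ⟨fun N hN => ?_⟩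
    by_contra h
    push Not at h
    exact hs ⟨N, hN, h.1, h.2⟩
  left
  obtain ⟨N, hN, hNb, hNt⟩ := hs
  have : Fact (Nat.Prime 3) := ⟨Nat.prime_three⟩
  have hxN : x ∈ N := by
    obtain ⟨n, hn⟩ := exists_prime_orderOf_dvd_card' (G := N) 3 (by
      by_contra h; exact hNb (hmin N hN h))
    rw [← orderOf_coe] at hn
    rcases hx.conj_of_pow_three (hn ▸ pow_orderOf_eq_one (n : G))
      (fun e => by simp [e] at hn) with h | h <;> obtain ⟨c, hc⟩ := isConj_iff.1 h.symm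
    · exact hc ▸ hN.conj_mem _ n.2 c
    · exact inv_inv x ▸ inv_mem (hc ▸ hN.conj_mem _ n.2 c)
  have hxs := hx.subgroup N hxN
  have hnot : ¬ IsConj (⟨x, hxN⟩ : N) (⟨x, hxN⟩ : N)⁻¹ := by
    intro h
    obtain ⟨s, hs⟩ := isConj_iff.1 h
    have hs' : (s : G) * x * (s : G)⁻¹ = x⁻¹ := congrArg Subtype.val hs
    refine hNt (top_unique fun q _ => ?_)
    have hq3 : (⟨q * x * q⁻¹, hN.conj_mem x hxN q⟩ : N) ^ 3 = 1 :=
      Subtype.ext (by show (q * x * q⁻¹) ^ 3 = 1; rw [conj_pow, hx.pow_three, mul_one, mul_inv_cancel])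
    have hq1 : (⟨q * x * q⁻¹, hN.conj_mem x hxN q⟩ : N) ≠ 1 := fun e =>
      hx.ne_one (conj_eq_one_iff.1 (congrArg Subtype.val e))
    obtain ⟨m, hm⟩ : ∃ m : N, (m : G) * (q * x * q⁻¹) * (m : G)⁻¹ = x := by
      rcases hxs.conj_of_pow_three hq3 hq1 with h | h <;> obtain ⟨c, hc⟩ := isConj_iff.1 h.symm
      · exact ⟨c, congrArg Subtype.val hc⟩
      · refine ⟨s * c, ?_⟩
        have hc' : (c : G) * (q * x * q⁻¹) * (c : G)⁻¹ = x⁻¹ := congrArg Subtype.val hc
        calc ((s * c : N) : G) * (q * x * q⁻¹) * ((s * c : N) : G)⁻¹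
            = (s : G) * ((c : G) * (q * x * q⁻¹) * (c : G)⁻¹) * (s : G)⁻¹ := by
              push_cast; group
          _ = ((s : G) * x * (s : G)⁻¹)⁻¹ := by rw [hc']; group
          _ = x := by rw [hs', inv_inv]
    have hmq : (m : G) * q ∈ zpowers x := hx.cent _ (mul_inv_eq_iff_eq_mul.1 (by
      calc (m : G) * q * x * ((m : G) * q)⁻¹ = (m : G) * (q * x * q⁻¹) * (m : G)⁻¹ := by group
        _ = x := hm))
    simpa using mul_mem (inv_mem m.2) (zpowers_le.2 hxN hmq)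
  obtain ⟨C, hC, hC3, hCi⟩ := exists_complement hxs hnot
  have huniq : ∀ D : Subgroup N, ¬ 3 ∣ Nat.card D → D ≤ C := by
    intro D hD d hd
    rw [← QuotientGroup.eq_one_iff]
    have h1 : orderOf (d : N ⧸ C) ∣ 3 := hCi ▸ orderOf_dvd_natCard (d : N ⧸ C)
    have h2 : orderOf (d : N ⧸ C) ∣ Nat.card D :=
      (orderOf_map_dvd (QuotientGroup.mk' C) d).trans (orderOf_dvd_natCard D hd)
    exact orderOf_eq_one_iff.1 (Nat.eq_one_of_dvd_coprimes
      (Nat.prime_three.coprime_iff_not_dvd.2 hD) h1 h2)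
  have hchar : C.Characteristic := by
    refine characteristic_iff_map_le.2 fun φ => huniq _ ?_
    rw [card_map_of_injective φ.injective]; exact hC3
  have hCb : C.map N.subtype = ⊥ := by
    refine hmin _ ?_ (by rw [card_map_of_injective N.subtype_injective]; exact hC3)
    exact inferInstance
  have hN3 : Nat.card N = 3 := by
    rw [← C.card_mul_index, hCi, ← card_map_of_injective N.subtype_injective (K := C), hCb,
      Subgroup.card_bot, one_mul]
  have hNx : N = zpowers x :=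
    (eq_of_le_of_card_ge (zpowers_le.2 hxN) (by rw [hN3, hx.card_zpowers])).symm
  obtain ⟨t, ht⟩ := isConj_iff.1 hinv
  have hidx : N.index = 2 := by
    rw [index_eq_two_iff]
    refine ⟨t, fun b => ?_⟩
    rw [hNx]
    by_cases hb : b ∈ zpowers x
    · refine Or.inr ⟨hb, fun h => ?_⟩
      obtain ⟨i, hi⟩ := mem_zpowers_iff.1 (show t ∈ zpowers x by
        simpa using mul_mem (inv_mem hb) h)
      have : x⁻¹ = x := by rw [← ht, ← hi]; group
      have : orderOf x ∣ 2 := orderOf_dvd_of_pow_eq_one (by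
        rw [pow_two, ← eq_inv_iff_mul_eq_one]; exact this.symm)
      rw [hx.ord] at this
      norm_num at this
    · refine Or.inl ⟨hx.cent _ ?_, hb⟩
      have hbn : b ∈ normalizer ((zpowers x : Subgroup G) : Set G) := by
        rw [← hNx, normalizer_eq_top]; exact mem_top b
      rcases hx.normalizer_cases hbn with e | e
      · exact absurd (hx.cent b (mul_inv_eq_iff_eq_mul.1 e)) hb
      · calc b * t * x = b * (t * x * t⁻¹) * t := by group
          _ = (b * x * b⁻¹)⁻¹ * b * t := by rw [ht]; group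
          _ = x * (b * t) := by rw [e, inv_inv, mul_assoc]
  rw [← N.card_mul_index, hN3, hidx]

omit hx hK in
theorem shape_aux (n : ℕ) : ∀ (G : Type u) [Group G] [Finite G], Nat.card G = n →
    ∀ x : G, SC x → Shape G := by
  induction n using Nat.strong_induction_on with
  | _ n ih =>
    intro G _ _ hn x hx
    by_cases hinv : IsConj x x⁻¹
    swap
    · obtain ⟨N, h1, h2, h3⟩ := exists_complement hx hinv
      exact Or.inl ⟨N, h1, h2, Or.inl h3⟩
    obtain ⟨K, hKn, hK, hKmax⟩ := exists_maximal_kernel G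
    have hz : SC (x : G ⧸ K) := hx.quotient hK
    have hzinv : IsConj (x : G ⧸ K) (x : G ⧸ K)⁻¹ := by
      obtain ⟨c, hc⟩ := isConj_iff.1 hinv
      exact isConj_iff.2 ⟨c, by simp only [← QuotientGroup.mk_mul, ← QuotientGroup.mk_inv]; rw [hc]⟩
    have hmin : ∀ L : Subgroup (G ⧸ K), L.Normal → ¬ 3 ∣ Nat.card L → L = ⊥ := by
      intro L hL hL3
      have := hL.comap (QuotientGroup.mk' K)
      have h3 : ¬ 3 ∣ Nat.card (L.comap (QuotientGroup.mk' K)) := by
        rw [show Nat.card (L.comap (QuotientGroup.mk' K)) = Nat.card K * Nat.card L from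
          QuotientGroup.card_preimage_mk K (L : Set (G ⧸ K)), Nat.prime_three.dvd_mul]
        exact not_or.2 ⟨hK, hL3⟩
      have hle := hKmax _ this h3 (QuotientGroup.le_comap_mk' K L)
      refine eq_bot_iff.2 fun q hq => ?_
      obtain ⟨g, rfl⟩ := QuotientGroup.mk_surjective q
      exact mem_bot.2 ((QuotientGroup.eq_one_iff g).2 (hle (mem_comap.2 hq)))
    rcases card_six_or_simple hz hzinv hmin with h6 | hs
    · exact Or.inl ⟨K, hKn, hK, Or.inr h6⟩
    · have hQ : Nat.card (G ⧸ K) ≤ n := hn ▸ Nat.le_of_dvd Nat.card_pos K.card_quotient_dvd_card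
      have hnc : ¬ IsMulCommutative (G ⧸ K) := by
        intro hc
        obtain ⟨c, hc'⟩ := isConj_iff.1 hzinv
        rw [hc.is_comm.comm c (x : G ⧸ K), mul_inv_cancel_right] at hc'
        have : orderOf (x : G ⧸ K) ∣ 2 := orderOf_dvd_of_pow_eq_one (by
          rw [pow_two, ← eq_inv_iff_mul_eq_one]; exact hc')
        rw [hz.ord] at this
        norm_num at this
      have hctx : Ctx (G ⧸ K) := ⟨hs, hnc, fun L hL z hzs hzL =>
        ih _ (lt_of_lt_of_le (lt_of_le_of_ne L.card_le_card_group fun e => hL (eq_top_of_card_eq L e)) hQ)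
          L rfl ⟨z, hzL⟩ (hzs.subgroup L hzL)⟩
      rcases card_eq_sixty_or hctx hz hzinv with h60 | h168
      · exact Or.inr (Or.inl ⟨K, hKn, (exp_two_of_sixty hx hK h60).2, h60, hs⟩)
      · have hb := eq_bot_of_oneSixtyEight hx hK h168
        refine Or.inr (Or.inr ⟨?_, ?_⟩)
        · rw [← h168, ← K.card_mul_index, hb, Subgroup.card_bot, one_mul]; rfl
        · subst hb
          exact (QuotientGroup.quotientBot (G := G)).symm.isSimpleGroup

omit hK in
/-- **Feit–Thompson** on a self-centralising subgroup of order three. -/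
theorem shape : Shape G := shape_aux _ G rfl x hx

end Cfsg.Agent.Lib.Spectrum.SelfThree
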