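import Cfsg.Agent.Lib.Spectrum.SelfThree.Pairs
import Cfsg.Agent.Lib.PGroups.Frattini

/-!
# At most two classes of maximal invariant subgroups have even order
-/

namespace Cfsg.Agent.Lib.Spectrum.SelfThree

open Subgroup
open scoped Pointwise

universe u

/-- A two-group of order above four has no three non-conjugate self-centralising four-groups. -/
theorem not_three_fours {R : Type*} [Group R] [Finite R] [Fact (Nat.Prime 2)] (hR : IsPGroup 2 R)
    (hbig : 4 < Nat.card R) (V : Fin 3 → Subgroup R) (hV : ∀ i, Nat.card (V i) = 4)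
    (hexp : ∀ i, ∀ v ∈ V i, v * v = 1)
    (hC : ∀ i, ∀ a, (∀ v ∈ V i, a * v = v * a) → a ∈ V i)
    (hnc : ∀ i j, i ≠ j → ∀ r : R, (V i).map (MulAut.conj r).toMonoidHom ≠ V j) : False := by
  classical
  have hab : ∀ i, ∀ u ∈ V i, ∀ v ∈ V i, u * v = v * u := fun i u hu v hv => by
    have h1 : u⁻¹ = u := inv_eq_of_mul_eq_one_right (hexp i u hu)
    have h2 : v⁻¹ = v := inv_eq_of_mul_eq_one_right (hexp i v hv)
    have h3 : (u * v)⁻¹ = u * v := inv_eq_of_mul_eq_one_right (hexp i _ (mul_mem hu hv))
    rw [← h3, mul_inv_rev, h1, h2]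
  set C := commutator R with hCdef
  have hlt : ∀ g : R, C ⊔ zpowers g ≠ ⊤ := by
    intro g e
    have e' : zpowers g ⊔ frattini R = ⊤ :=
      top_le_iff.1 (e ▸ sup_le (le_sup_of_le_right (PGroups.commutator_le_frattini hR)) le_sup_left)
    have htop : zpowers g = ⊤ := frattini_nongenerating e'
    have hall : ∀ a, a ∈ V 0 := fun a => hC 0 a fun v _ => by
      obtain ⟨i, rfl⟩ := mem_zpowers_iff.1 (htop ▸ mem_top a : a ∈ zpowers g)
      obtain ⟨j, rfl⟩ := mem_zpowers_iff.1 (htop ▸ mem_top v : v ∈ zpowers g)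
      rw [← zpow_add, ← zpow_add, add_comm]
    have : V 0 = ⊤ := eq_top_iff.2 fun a _ => hall a
    have := hV 0
    rw [‹V 0 = ⊤›, Subgroup.card_top] at this
    omega
  have hidx : 4 ≤ C.index := by
    obtain ⟨k, hk⟩ := hR.index C
    rw [hk]
    rcases k with _ | _ | k
    · exfalso
      exact hlt 1 (by rw [show C = ⊤ from index_eq_one.1 (by simpa using hk), top_sup_eq])
    · exfalso
      obtain ⟨g, hg⟩ : ∃ g, g ∉ C := by
        by_contra hh
        simp only [not_exists, not_not] at hh
        rw [show C = ⊤ from eq_top_iff.2 (fun a _ => hh a), index_top] at hk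
        norm_num at hk
      refine hlt g (eq_top_iff.2 fun a _ => ?_)
      by_cases ha : a ∈ C
      · exact mem_sup_left ha
      · have hag : a * g⁻¹ ∈ C := by
          rw [mul_mem_iff_of_index_two (by simpa using hk)]
          exact ⟨fun h => absurd h ha, fun h => absurd (inv_mem_iff.1 h) hg⟩
        rw [← inv_mul_cancel_right a g]
        exact mul_mem (mem_sup_left hag) (mem_sup_right (mem_zpowers g))
    · calc 4 = 2 ^ 2 := by norm_num
        _ ≤ _ := Nat.pow_le_pow_right (by norm_num) (by omega)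
  have : Nontrivial R := Finite.one_lt_card_iff_nontrivial.1 (by omega)
  have := hR.center_nontrivial
  obtain ⟨⟨c, hc⟩, hc1⟩ := exists_ne (1 : center R)
  have hcc : ∀ r, r * c = c * r := fun r => mem_center_iff.1 hc r
  have hc1' : c ≠ 1 := fun e => hc1 (Subtype.ext e)
  have hcV : ∀ i, c ∈ V i := fun i => hC i c fun v _ => (hcc v).symm
  -- a second involution in each
  have hex : ∀ i, ∃ s ∈ V i, s ≠ 1 ∧ s ≠ c := by
    intro i
    by_contra hh
    simp only [not_exists, not_and, not_not] at hh
    have : Nat.card (V i) ≤ 2 := by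
      have hf : Function.Surjective (![⟨1, one_mem _⟩, ⟨c, hcV i⟩] : Fin 2 → V i) := by
        rintro ⟨s, hs⟩
        by_cases h1 : s = 1
        · exact ⟨0, Subtype.ext h1.symm⟩
        · exact ⟨1, Subtype.ext (hh s hs h1).symm⟩
      simpa using Nat.card_le_card_of_surjective _ hf
    have := hV i
    omega
  choose s hs hs1 hsc using hex
  have hgen : ∀ i a, a * s i = s i * a → a ∈ V i := by
    intro i a ha
    refine hC i a fun v hv => ?_
    let D := Subgroup.centralizer ({a} : Set R) ⊓ V i
    have : D = V i := by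
      refine eq_of_le_of_card_ge inf_le_right ?_
      have hd := card_dvd_of_le (inf_le_right : D ≤ V i)
      rw [hV i] at hd ⊢
      have h3 : 3 ≤ Nat.card D := by
        have hg : Function.Injective (![⟨1, one_mem _⟩,
            ⟨c, mem_centralizer_singleton_iff.2 (hcc a).symm, hcV i⟩,
            ⟨s i, mem_centralizer_singleton_iff.2 ha.symm, hs i⟩] : Fin 3 → D) := by
          intro p q e
          have e' := congrArg Subtype.val e
          fin_cases p <;> fin_cases q <;> simp at e' ⊢ <;>
            first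
              | exact hc1' e' | exact hc1' e'.symm
              | exact hs1 i e' | exact hs1 i e'.symm
              | exact hsc i e' | exact hsc i e'.symm
        simpa using Nat.card_le_card_of_injective _ hg
      have hle := Nat.le_of_dvd (by norm_num) hd
      generalize Nat.card D = j at hd hle h3
      interval_cases j
      · norm_num at hd
      · omega
    exact (mem_centralizer_singleton_iff.1 ((this.symm ▸ hv : v ∈ D).1)).symm
  have : C.Normal := by rw [hCdef]; infer_instance
  let π := QuotientGroup.mk' C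
  have hπc : ∀ r x : R, π (r * x * r⁻¹) = π x := by
    intro r x
    have hmem : r * x * r⁻¹ * x⁻¹ ∈ C := by
      rw [hCdef, _root_.commutator_def, ← commutatorElement_def]
      exact Subgroup.commutator_mem_commutator (mem_top r) (mem_top x)
    have := (QuotientGroup.eq_one_iff _).2 hmem
    rw [QuotientGroup.mk_mul, QuotientGroup.mk_inv, mul_inv_eq_one] at this
    exact this
  -- the conjugates of `s i` fill its coset
  let f : ∀ i, R ⧸ V i → {y : R // π y = π (s i)} := fun i q =>
    ⟨q.out * s i * q.out⁻¹, hπc _ _⟩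
  have hf : ∀ i, Function.Injective (f i) := by
    intro i q q' e
    have e' : q.out * s i * q.out⁻¹ = q'.out * s i * q'.out⁻¹ := congrArg Subtype.val e
    have : q.out⁻¹ * q'.out ∈ V i := hgen i _ (by
      calc q.out⁻¹ * q'.out * s i = q.out⁻¹ * (q'.out * s i * q'.out⁻¹) * q'.out := by group
        _ = s i * (q.out⁻¹ * q'.out) := by rw [← e']; group)
    rw [← q.out_eq', ← q'.out_eq']
    exact QuotientGroup.eq.2 this
  have hfib : ∀ i, Nat.card {y : R // π y = π (s i)} = Nat.card C := by
    intro i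
    refine Nat.card_congr
      { toFun := fun y => ⟨y.1 * (s i)⁻¹, (QuotientGroup.eq_one_iff _).1 (by
          show π (y.1 * (s i)⁻¹) = 1
          rw [map_mul, map_inv, y.2, mul_inv_cancel])⟩
        invFun := fun w => ⟨w.1 * s i, by
          rw [map_mul, show π w.1 = 1 from (QuotientGroup.eq_one_iff _).2 w.2, one_mul]⟩
        left_inv := fun y => Subtype.ext (inv_mul_cancel_right _ _)
        right_inv := fun w => Subtype.ext (mul_inv_cancel_right _ _) }
  have hcount : ∀ i, Nat.card (R ⧸ V i) = Nat.card C ∧ C.index = 4 := by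
    intro i
    have h1 := Nat.card_le_card_of_injective _ (hf i)
    rw [hfib] at h1
    have h2 := (V i).card_eq_card_quotient_mul_card_subgroup
    rw [hV i, ← C.card_mul_index] at h2
    have hpos : 0 < Nat.card C := Nat.card_pos
    refine ⟨by nlinarith, by nlinarith⟩
  have hsurj : ∀ i, Function.Surjective (f i) := fun i =>
    ((Nat.bijective_iff_injective_and_card _).2 ⟨hf i, (hcount i).1.trans (hfib i).symm⟩).2
  have hne1 : ∀ i, π (s i) ≠ 1 := by
    intro i e
    obtain ⟨q, hq⟩ := hsurj i ⟨1, by rw [map_one, e]⟩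
    have : q.out * s i * q.out⁻¹ = 1 := congrArg Subtype.val hq
    exact hs1 i (by simpa using this)
  have hinj : ∀ i j, i ≠ j → π (s i) ≠ π (s j) := by
    intro i j hij e
    obtain ⟨q, hq⟩ := hsurj i ⟨s j, e.symm⟩
    have hq' : q.out * s i * q.out⁻¹ = s j := congrArg Subtype.val hq
    refine hnc i j hij q.out ?_
    refine eq_of_le_of_card_ge ?_ (by rw [card_map_of_injective (MulAut.conj q.out).injective, hV, hV])
    rintro _ ⟨v, hv, rfl⟩
    refine hgen j _ ?_
    show q.out * v * q.out⁻¹ * s j = s j * (q.out * v * q.out⁻¹)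
    rw [← hq']
    calc q.out * v * q.out⁻¹ * (q.out * s i * q.out⁻¹) = q.out * (v * s i) * q.out⁻¹ := by group
      _ = _ := by rw [hab i v hv (s i) (hs i)]; group
  -- the product of two is in the coset of the third
  have hQ : Nat.card (R ⧸ C) = 4 := (hcount 0).2
  have hall : ∀ y : R ⧸ C, y = 1 ∨ y = π (s 0) ∨ y = π (s 1) ∨ y = π (s 2) := by
    intro y
    have hg : Function.Injective (![1, π (s 0), π (s 1), π (s 2)] : Fin 4 → R ⧸ C) := by
      intro p q e
      fin_cases p <;> fin_cases q <;> simp at e ⊢ <;>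
        first
          | exact hne1 _ e | exact hne1 _ e.symm
          | exact hinj 0 1 (by decide) e | exact hinj 0 1 (by decide) e.symm
          | exact hinj 0 2 (by decide) e | exact hinj 0 2 (by decide) e.symm
          | exact hinj 1 2 (by decide) e | exact hinj 1 2 (by decide) e.symm
    obtain ⟨p, hp⟩ := ((Nat.bijective_iff_injective_and_card _).2 ⟨hg, by simp [hQ]⟩).2 y
    subst hp
    fin_cases p <;> simp
  have hinvs : ∀ i, (π (s i))⁻¹ = π (s i) := fun i =>
    inv_eq_of_mul_eq_one_right (by rw [← map_mul, hexp i _ (hs i), map_one])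
  have h3 : π (s 0 * s 1) = π (s 2) := by
    rcases hall (π (s 0 * s 1)) with e | e | e | e
    · rw [map_mul, mul_eq_one_iff_eq_inv, hinvs] at e
      exact absurd e (hinj 0 1 (by decide))
    · rw [map_mul, mul_eq_left] at e
      exact absurd e (hne1 1)
    · rw [map_mul, mul_eq_right] at e
      exact absurd e (hne1 0)
    · exact e
  obtain ⟨q, hq⟩ := hsurj 2 ⟨_, h3⟩
  have hq' : q.out * s 2 * q.out⁻¹ = s 0 * s 1 := congrArg Subtype.val hq
  have hsq : s 0 * s 1 * (s 0 * s 1) = 1 := by
    rw [← hq']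
    calc q.out * s 2 * q.out⁻¹ * (q.out * s 2 * q.out⁻¹) = q.out * (s 2 * s 2) * q.out⁻¹ := by group
      _ = 1 := by rw [hexp 2 _ (hs 2), mul_one, mul_inv_cancel]
  have hcomm : s 1 * s 0 = s 0 * s 1 := by
    have := inv_eq_of_mul_eq_one_right hsq
    rw [mul_inv_rev, inv_eq_of_mul_eq_one_right (hexp 0 _ (hs 0)),
      inv_eq_of_mul_eq_one_right (hexp 1 _ (hs 1))] at this
    exact this
  refine hnc 0 1 (by decide) 1 ?_
  refine eq_of_le_of_card_ge ?_ (by rw [card_map_of_injective (MulAut.conj (1 : R)).injective, hV, hV])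
  rintro _ ⟨v, hv, rfl⟩
  show (1 : R) * v * 1⁻¹ ∈ V 1
  rw [one_mul, inv_one, mul_one]
  refine hgen 1 v ?_
  exact hab 0 v hv (s 1) (hgen 0 _ hcomm)

variable {G : Type u} [Group G] [Finite G] [Fact (Nat.Prime 2)]

local notation "two" => pPart 2

theorem TwoInv.sq_eq_one {z : G} {P : Subgroup G} (T : TwoInv z P) (h4 : Nat.card P = 4) {v : G}
    (hv : v ∈ P) : v * v = 1 := by
  by_contra hne2
  have hd : orderOf v ∣ 4 := h4 ▸ orderOf_dvd_natCard P hv
  have ho : orderOf v = 4 := by
    have hle := Nat.le_of_dvd (by norm_num) hd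
    generalize hj : orderOf v = j at hd hle
    interval_cases j
    · simp at hd
    · exact absurd (by simp [orderOf_eq_one_iff.1 hj]) hne2
    · exact absurd (by rw [← pow_two, ← hj]; exact pow_orderOf_eq_one v) hne2
    · norm_num at hd
    · rfl
  have hgen : zpowers v = P :=
    eq_of_le_of_card_ge (zpowers_le.2 hv) (by rw [Nat.card_zpowers, ho, h4])
  have hsq : z * (v * v) * z⁻¹ = v * v := by
    obtain ⟨i, hi⟩ := mem_zpowers_iff.1 (hgen ▸ T.conj_mem hv : z * v * z⁻¹ ∈ zpowers v)
    have h4' : ∀ j : ℤ, v ^ (((4 : ℕ) : ℤ) * j) = 1 := fun j => by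
      rw [zpow_mul, zpow_natCast, ← ho, pow_orderOf_eq_one, one_zpow]
    obtain ⟨j, rfl | rfl⟩ : ∃ j : ℤ, i = 2 * j ∨ i = 2 * j + 1 := ⟨i / 2, by omega⟩
    · exfalso
      apply hne2
      have h2 : (z * v * z⁻¹) ^ 2 = 1 := by
        rw [← hi, ← zpow_natCast, ← zpow_mul, show 2 * j * ((2 : ℕ) : ℤ) = ((4 : ℕ) : ℤ) * j by
          push_cast; ring, h4']
      rw [conj_pow] at h2
      simpa [pow_two] using h2
    · calc z * (v * v) * z⁻¹ = (z * v * z⁻¹) * (z * v * z⁻¹) := by group
        _ = v * v := by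
          rw [← hi, ← zpow_add, show (2 * j + 1) + (2 * j + 1) = ((4 : ℕ) : ℤ) * j + 2 by
            push_cast; ring, zpow_add, h4', one_mul, zpow_two]
  exact hne2 (T.eq_one_of_fixed (mul_mem hv hv) hsq)

/-- Conjugating the two-part. -/
theorem two_map {z : G} {M : Subgroup G} (h : SC z) (hM : MaxInv z M) (g : G) :
    two (M.map (MulAut.conj g).toMonoidHom) = (two M).map (MulAut.conj g).toMonoidHom := by
  symm
  refine eq_of_le_of_card_ge (le_pPart (h.conj g) (hM.conj g) ((isPGroup_pPart M).map _)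
    (Subgroup.map_mono (pPart_le 2 M))) ?_
  rw [card_map_of_injective (MulAut.conj g).injective, card_pPart, card_pPart,
    card_map_of_injective (MulAut.conj g).injective]

theorem map_conj_one (H : Subgroup G) : H.map (MulAut.conj (1 : G)).toMonoidHom = H := by
  ext y
  simp

theorem exists_conj_le (S : Sylow 2 G) {P : Subgroup G} (hP : IsPGroup 2 P) :
    ∃ g : G, P.map (MulAut.conj g).toMonoidHom ≤ S := by
  obtain ⟨Q, hQ⟩ := hP.exists_le_sylow
  obtain ⟨g, rfl⟩ := MulAction.exists_smul_eq G Q S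
  exact ⟨g, by rw [Sylow.coe_subgroup_smul]; exact Subgroup.map_mono hQ⟩

theorem not_conj_map {M₁ M₂ : Subgroup G} (hnc : ∀ g : G, M₁.map (MulAut.conj g).toMonoidHom ≠ M₂)
    (g₁ g₂ r : G) : (M₁.map (MulAut.conj g₁).toMonoidHom).map (MulAut.conj r).toMonoidHom ≠
      M₂.map (MulAut.conj g₂).toMonoidHom := by
  intro e
  refine hnc (g₂⁻¹ * (r * g₁)) ?_
  have e' := congrArg (fun H : Subgroup G => H.map (MulAut.conj g₂⁻¹).toMonoidHom) e
  rw [map_conj_inv] at e'
  simp only [Subgroup.map_map] at e'
  rw [← e']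
  congr 1
  ext y
  simp [mul_assoc]

variable (hG : Ctx G) {x : G} (hx : SC x)
include hG hx

/-- Two non-conjugate classes of even order have four-groups as two-parts. -/
theorem two_even {M M' : Subgroup G} (hM : MaxInv x M) (hM' : MaxInv x M') (hne : M ≠ ⊥)
    (hne' : M' ≠ ⊥) (hnc : ∀ g : G, M.map (MulAut.conj g).toMonoidHom ≠ M')
    (hev : 2 ∣ Nat.card M) (hev' : 2 ∣ Nat.card M') :
    Nat.card (two M) = 4 ∧ Nat.card (normalizer (M : Set G)) = 6 * Nat.card M ∧ 8 ∣ Nat.card G := by
  obtain ⟨S⟩ : Nonempty (Sylow 2 G) := inferInstance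
  obtain ⟨g, hg⟩ := exists_conj_le S (isPGroup_pPart (p := 2) M)
  obtain ⟨g', hg'⟩ := exists_conj_le S (isPGroup_pPart (p := 2) M')
  set N := M.map (MulAut.conj g).toMonoidHom with hN
  set N' := M'.map (MulAut.conj g').toMonoidHom with hN'
  have hsN : SC (g * x * g⁻¹) := hx.conj g
  have hsN' : SC (g' * x * g'⁻¹) := hx.conj g'
  have hcN : Nat.card N = Nat.card M := card_map_of_injective (MulAut.conj g).injective
  have hcN' : Nat.card N' = Nat.card M' := card_map_of_injective (MulAut.conj g').injective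
  have hneN : N ≠ ⊥ := by
    rw [hN, Ne, Subgroup.map_eq_bot_iff_of_injective _ (MulAut.conj g).injective]; exact hne
  have hneN' : N' ≠ ⊥ := by
    rw [hN', Ne, Subgroup.map_eq_bot_iff_of_injective _ (MulAut.conj g').injective]; exact hne'
  have hle : two N ≤ (S : Subgroup G) := by rw [hN, two_map hx hM g]; exact hg
  have hle' : two N' ≤ (S : Subgroup G) := by rw [hN', two_map hx hM' g']; exact hg'
  have hne12 : N ≠ N' := fun e => not_conj_map hnc g g' 1 (by
    rw [← hN, ← hN', ← e, map_conj_one])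
  have hevN : 2 ∣ Nat.card N := hcN ▸ hev
  have hevN' : 2 ∣ Nat.card N' := hcN' ▸ hev'
  have hS : Nat.card S = 2 ^ (Nat.card G).factorization 2 := S.card_eq_multiplicity
  have hbound : ∀ {z : G} {K : Subgroup G}, SC z → MaxInv z K → K ≠ ⊥ → 2 ∣ Nat.card K →
      16 ≤ Nat.card (two K) → two K ≤ (S : Subgroup G) → (two K).relIndex (S : Subgroup G) ≤ 2 := by
    intro z K hz hK hKne hKev h16 hKS
    refine relIndex_le_two hKS (card_pPart (p := 2) K) ?_
    rw [hS]
    refine Nat.pow_le_pow_right (by norm_num) ?_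
    by_contra hh
    exact not_dvd_of_big hz hK hG hKne hKev h16
      ((Nat.prime_two.pow_dvd_iff_le_factorization Nat.card_pos.ne').2 (by omega))
  have hcard : ∀ {z : G} {K : Subgroup G}, SC z → MaxInv z K → 2 ∣ Nat.card K →
      Nat.card (two K) = 4 ∨ 16 ≤ Nat.card (two K) := by
    intro z K hz hK hKev
    rcases (twoInv hz hK).card_le_four_or with e | e
    · exfalso
      rw [card_pPart] at e
      have := Nat.Prime.factorization_pos_of_dvd Nat.prime_two Nat.card_pos.ne' hKev
      have := Nat.one_lt_pow (show (Nat.card K).factorization 2 ≠ 0 by omega) (by norm_num : 1 < 2)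
      omega
    · exact e
  have h4 : Nat.card (two N) = 4 := by
    rcases hcard hsN (hM.conj g) hevN with e | e
    · exact e
    · exfalso
      rcases hcard hsN' (hM'.conj g') hevN' with e' | e'
      · exact not_big_small hsN (hM.conj g) hG hneN hsN' (hM'.conj g') hneN' hevN hevN' e e'
          S.isPGroup' hle hle' (hbound hsN (hM.conj g) hneN hevN e hle)
      · exact hne12 (pair hsN (hM.conj g) hG hneN hsN' (hM'.conj g') hneN' hevN hevN' e e' S.isPGroup'
          hle hle' (hbound hsN (hM.conj g) hneN hevN e hle) (hbound hsN' (hM'.conj g') hneN' hevN' e' hle'))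
  have h4' : Nat.card (two N') = 4 := by
    rcases hcard hsN' (hM'.conj g') hevN' with e | e
    · exact e
    · exfalso
      exact not_big_small hsN' (hM'.conj g') hG hneN' hsN (hM.conj g) hneN hevN' hevN e h4
        S.isPGroup' hle' hle (hbound hsN' (hM'.conj g') hneN' hevN' e hle')
  have h4M : Nat.card (two M) = 4 := by
    rw [← h4, card_pPart, card_pPart, hcN]
  have h8 : 8 ∣ Nat.card G := by
    rw [show (8 : ℕ) = 2 ^ 3 by norm_num]
    refine (Nat.prime_two.pow_dvd_iff_le_factorization Nat.card_pos.ne').2 ?_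
    by_contra hh
    have hle4 : Nat.card S ≤ 4 := by
      rw [hS]
      calc 2 ^ (Nat.card G).factorization 2 ≤ 2 ^ 2 := Nat.pow_le_pow_right (by norm_num) (by omega)
        _ = 4 := by norm_num
    have e : two N = (S : Subgroup G) := eq_of_le_of_card_ge hle (by omega)
    have e' : two N' = (S : Subgroup G) := eq_of_le_of_card_ge hle' (by omega)
    have := eq_map_of_pPart (p := 2) hsN (hM.conj g) hG hneN hsN' (hM'.conj g') hneN' hevN hevN' 1
      (by rw [e', ← e, map_conj_one])
    rw [map_conj_one] at this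
    exact hne12 this.symm
  refine ⟨h4M, (card_normalizer hx hM hG hne).resolve_left fun e => ?_, h8⟩
  have hf := factorization_eq (p := 2) hx hM hG hne hev (Or.inr e)
  have h3 := (Nat.prime_two.pow_dvd_iff_le_factorization (k := 3) Nat.card_pos.ne').1
    (show 2 ^ 3 ∣ Nat.card G by norm_num; exact h8)
  rw [card_pPart] at h4M
  rw [hf] at h3
  have h5 : 2 ^ 3 ≤ 2 ^ (Nat.card M).factorization 2 := Nat.pow_le_pow_right (by norm_num) h3
  omega

/-- There are no three non-conjugate classes of even order. -/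
theorem not_three_even (M : Fin 3 → Subgroup G) (hM : ∀ i, MaxInv x (M i)) (hne : ∀ i, M i ≠ ⊥)
    (hnc : ∀ i j, i ≠ j → ∀ g : G, (M i).map (MulAut.conj g).toMonoidHom ≠ M j)
    (hev : ∀ i, 2 ∣ Nat.card (M i)) : False := by
  have hall : ∀ i, Nat.card (two (M i)) = 4 ∧ Nat.card (normalizer (M i : Set G)) = 6 * Nat.card (M i) ∧
      8 ∣ Nat.card G := by
    intro i
    obtain ⟨j, hj⟩ : ∃ j, i ≠ j := ⟨i + 1, by fin_cases i <;> decide⟩
    exact two_even hG hx (hM i) (hM j) (hne i) (hne j) (hnc i j hj) (hev i) (hev j)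
  obtain ⟨S⟩ : Nonempty (Sylow 2 G) := inferInstance
  choose g hg using fun i => exists_conj_le S (isPGroup_pPart (p := 2) (M i))
  let N : Fin 3 → Subgroup G := fun i => (M i).map (MulAut.conj (g i)).toMonoidHom
  have hs : ∀ i, SC (g i * x * (g i)⁻¹) := fun i => hx.conj _
  have hNne : ∀ i, N i ≠ ⊥ := fun i => by
    show (M i).map _ ≠ ⊥
    rw [Ne, Subgroup.map_eq_bot_iff_of_injective _ (MulAut.conj (g i)).injective]; exact hne i
  have hNev : ∀ i, 2 ∣ Nat.card (N i) := fun i => by
    show 2 ∣ Nat.card ((M i).map _)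
    rw [card_map_of_injective (MulAut.conj (g i)).injective]; exact hev i
  have hVle : ∀ i, two (N i) ≤ (S : Subgroup G) := fun i => by
    show two ((M i).map _) ≤ _
    rw [two_map hx (hM i) (g i)]; exact hg i
  have hV4 : ∀ i, Nat.card (two (N i)) = 4 := fun i => by
    show Nat.card (two ((M i).map _)) = 4
    rw [two_map hx (hM i) (g i), card_map_of_injective (MulAut.conj (g i)).injective, (hall i).1]
  have h8 : 4 < Nat.card (S : Subgroup G) := by
    have := Nat.le_of_dvd Nat.card_pos (Sylow.pow_dvd_card_of_pow_dvd_card S (n := 3)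
      (show 2 ^ 3 ∣ Nat.card G by norm_num; exact (hall 0).2.2))
    omega
  refine not_three_fours (R := (S : Subgroup G)) S.isPGroup' h8
    (fun i => (two (N i)).subgroupOf S)
    (fun i => by rw [Nat.card_congr (subgroupOfEquivOfLe (hVle i)).toEquiv, hV4]) ?_ ?_ ?_
  · intro i v hv
    exact Subtype.ext ((twoInv (hs i) ((hM i).conj _)).sq_eq_one (hV4 i) (mem_subgroupOf.1 hv))
  · intro i a ha
    obtain ⟨k, hk⟩ := S.isPGroup' a
    exact mem_subgroupOf.2 (mem_of_centralizes (hs i) ((hM i).conj _) hG (hNne i) (hNev i)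
      (show (a : G) ^ 2 ^ k = 1 from congrArg Subtype.val hk)
      fun v hv => congrArg Subtype.val (ha ⟨v, hVle i hv⟩ (mem_subgroupOf.2 hv)))
  · intro i j hij r e
    have e1 : (two (N i)).map (MulAut.conj (r : G)).toMonoidHom = two (N j) := by
      refine eq_of_le_of_card_ge ?_ (by rw [card_map_of_injective (MulAut.conj (r : G)).injective, hV4, hV4])
      rintro _ ⟨v, hv, rfl⟩
      have hmem : r * ⟨v, hVle i hv⟩ * r⁻¹ ∈
          ((two (N i)).subgroupOf S).map (MulAut.conj r).toMonoidHom :=
        ⟨⟨v, hVle i hv⟩, mem_subgroupOf.2 hv, rfl⟩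
      rw [e] at hmem
      exact mem_subgroupOf.1 hmem
    have := eq_map_of_pPart (p := 2) (hs i) ((hM i).conj _) hG (hNne i) (hs j) ((hM j).conj _) (hNne j)
      (hNev i) (hNev j) r e1.symm
    exact not_conj_map (hnc i j hij) (g i) (g j) r this.symm

end Cfsg.Agent.Lib.Spectrum.SelfThree
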