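import Cfsg.Agent.Lib.Spectrum.SelfThree.Local
import Cfsg.Agent.Lib.Fg6.OrderThreeAut
import Cfsg.Agent.Lib.Elem70.ClassTwoRank
import Cfsg.Agent.Lib.Characters.DefectZero

/-!
# Two-groups normalised by a self-centralising element of order three
-/

namespace Cfsg.Agent.Lib.Spectrum.SelfThree

open Subgroup

universe u

variable {G : Type u} [Group G] [Finite G] {z : G} {P : Subgroup G}

/-- The centre of a subgroup, as a subgroup of the whole group. -/
def Zc (P : Subgroup G) : Subgroup G := (center P).map P.subtype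

omit [Finite G] in
theorem mem_Zc {y : G} : y ∈ Zc P ↔ y ∈ P ∧ ∀ p ∈ P, p * y = y * p := by
  constructor
  · rintro ⟨⟨y, hy⟩, hc, rfl⟩
    exact ⟨hy, fun p hp => congrArg Subtype.val (mem_center_iff.1 hc ⟨p, hp⟩)⟩
  · rintro ⟨hy, hc⟩
    exact ⟨⟨y, hy⟩, mem_center_iff.2 fun p => Subtype.ext (hc p p.2), rfl⟩

omit [Finite G] in
theorem Zc_le : Zc P ≤ P := fun _ hy => (mem_Zc.1 hy).1

omit [Finite G] in
theorem normalizer_le_normalizer_Zc (P : Subgroup G) :
    normalizer (P : Set G) ≤ normalizer (Zc P : Set G) := by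
  intro g hg
  rw [mem_normalizer_iff_map_conj_eq] at hg ⊢
  ext y
  constructor
  · rintro ⟨w, hw, rfl⟩
    obtain ⟨hwP, hwc⟩ := mem_Zc.1 hw
    refine mem_Zc.2 ⟨?_, fun p hp => ?_⟩
    · exact hg ▸ mem_map_of_mem _ hwP
    · obtain ⟨p', hp', rfl⟩ := (hg.symm ▸ hp : p ∈ P.map (MulAut.conj g).toMonoidHom)
      show (MulAut.conj g) p' * (MulAut.conj g) w = (MulAut.conj g) w * (MulAut.conj g) p'
      rw [← map_mul, hwc p' hp', map_mul]
  · intro hy
    obtain ⟨hyP, hyc⟩ := mem_Zc.1 hy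
    obtain ⟨w, hw, rfl⟩ := (hg.symm ▸ hyP : y ∈ P.map (MulAut.conj g).toMonoidHom)
    refine ⟨w, mem_Zc.2 ⟨hw, fun p hp => ?_⟩, rfl⟩
    apply (MulAut.conj g).injective
    rw [map_mul, map_mul]
    exact hyc _ (hg ▸ mem_map_of_mem _ hp)

/-- A two-group normalised by `z`. -/
structure TwoInv (z : G) (P : Subgroup G) : Prop where
  sc : SC z
  two : IsPGroup 2 P
  norm : z ∈ normalizer (P : Set G)

namespace TwoInv

variable (T : TwoInv z P)
include T

omit [Finite G] in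
theorem three_not_dvd [Finite P] : ¬ 3 ∣ Nat.card P := by
  obtain ⟨k, hk⟩ := T.two.exists_card_eq
  intro h
  rw [hk] at h
  have := Nat.prime_three.dvd_of_dvd_pow h
  norm_num at this

omit [Finite G] in
theorem conj_mem {p : G} (hp : p ∈ P) : z * p * z⁻¹ ∈ P := (mem_normalizer_iff.1 T.norm p).1 hp

omit [Finite G] in
theorem conj_inv_mem {p : G} (hp : p ∈ P) : z⁻¹ * p * z ∈ P := by
  have := (mem_normalizer_iff.1 (inv_mem T.norm) p).1 hp
  rwa [inv_inv] at this

theorem eq_one_of_fixed {p : G} (hp : p ∈ P) (h : z * p * z⁻¹ = p) : p = 1 :=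
  T.sc.eq_one_of_commute T.three_not_dvd hp (mul_inv_eq_iff_eq_mul.1 h).symm

theorem norm_eq_one {p : G} (hp : p ∈ P) :
    p * (z * p * z⁻¹) * (z * (z * p * z⁻¹) * z⁻¹) = 1 :=
  T.sc.norm_eq_one T.three_not_dvd T.norm hp

theorem commutator_mem {p q : G} (hp : p ∈ P) (hq : q ∈ P) : p * q * p⁻¹ * q⁻¹ ∈ Zc P := by
  let φ : P →* P := (P.normalizerMonoidHom ⟨z, T.norm⟩).toMonoidHom
  have hrel : ∀ t : P, t * φ t * φ (φ t) = 1 := fun t => Subtype.ext (T.norm_eq_one t.2)
  have hcl := Fg6.OrderThreeAut.nilpotencyClass_le_two T.two φ hrel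
  have := T.two.isNilpotent
  have hc := Elem70.ClassTwoRank.commutator_mem_center hcl (⟨p, hp⟩ : P) ⟨q, hq⟩
  exact ⟨_, hc, rfl⟩

theorem Zc_norm : z ∈ normalizer (Zc P : Set G) := normalizer_le_normalizer_Zc P T.norm

theorem Zc_inv : TwoInv z (Zc P) := ⟨T.sc, T.two.to_le Zc_le, T.Zc_norm⟩

theorem card_modEq : Nat.card P % 3 = 1 := T.sc.card_modEq T.three_not_dvd T.norm

theorem card_le_four_or : Nat.card P = 1 ∨ Nat.card P = 4 ∨ 16 ≤ Nat.card P := by
  obtain ⟨k, hk⟩ := T.two.exists_card_eq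
  have h1 := T.card_modEq
  rw [hk] at h1 ⊢
  rcases le_or_gt k 3 with h | h
  · interval_cases k <;> simp_all
  · right; right
    calc 16 = 2 ^ 4 := by norm_num
      _ ≤ 2 ^ k := Nat.pow_le_pow_right (by norm_num) h

theorem commute_of_card_four (h4 : Nat.card P ≤ 4) {p q : G} (hp : p ∈ P) (hq : q ∈ P) :
    p * q = q * p := by
  obtain ⟨k, hk⟩ := T.two.exists_card_eq
  have : Fact (Nat.Prime 2) := ⟨Nat.prime_two⟩
  have hk2 : k ≤ 2 := by
    by_contra hc
    have : 2 ^ 3 ≤ 2 ^ k := Nat.pow_le_pow_right (by norm_num) (by omega)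
    omega
  have hcomm : IsMulCommutative P := by
    interval_cases k
    · have : Subsingleton P := (Nat.card_eq_one_iff_unique.1 hk).1
      exact ⟨⟨fun _ _ => Subsingleton.elim _ _⟩⟩
    · have := isCyclic_of_prime_card (p := 2) (by simpa using hk)
      infer_instance
    · exact IsPGroup.isMulCommutative_of_card_eq_prime_sq (p := 2) hk
  exact congrArg Subtype.val (hcomm.is_comm.comm (⟨p, hp⟩ : P) ⟨q, hq⟩)

/-- An element centralised by a hyperplane is central. -/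
theorem central_of_hyperplane {D : Subgroup G} (hDP : D ≤ P) (hD : D.relIndex P ≤ 2) {w : G}
    (hw : w ∈ P) (hc : ∀ d ∈ D, d * w = w * d) : w ∈ Zc P := by
  refine mem_Zc.2 ⟨hw, ?_⟩
  rcases Nat.lt_or_ge (D.relIndex P) 2 with h1 | h1
  · have h0 : D.relIndex P ≠ 0 := FiniteIndex.index_ne_zero
    exact fun p hp => hc p (relIndex_eq_one.1 (show D.relIndex P = 1 by omega) hp)
  have h2 : (D.subgroupOf P).index = 2 := by
    show D.relIndex P = 2
    omega
  have hmem : ∀ a ∈ P, ∀ b ∈ P, (a * b ∈ D ↔ (a ∈ D ↔ b ∈ D)) := fun a ha b hb =>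
    mul_mem_iff_of_index_two h2 (a := ⟨a, ha⟩) (b := ⟨b, hb⟩)
  let c : G → G := fun q => q * w * q⁻¹ * w⁻¹
  have hconst : ∀ a ∈ P, ∀ b ∈ P, a ∉ D → b ∉ D → c a = c b := by
    intro a ha b hb haD hbD
    have hd : a⁻¹ * b ∈ D :=
      (hmem _ (inv_mem ha) _ hb).2 ⟨fun h => absurd (by simpa using inv_mem h) haD,
        fun h => absurd h hbD⟩
    have e := hc _ hd
    show a * w * a⁻¹ * w⁻¹ = b * w * b⁻¹ * w⁻¹
    calc a * w * a⁻¹ * w⁻¹ = a * (w * (a⁻¹ * b)) * b⁻¹ * w⁻¹ := by group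
      _ = b * w * b⁻¹ * w⁻¹ := by rw [← e]; group
  -- a point outside all three
  obtain ⟨q, hq, hqD⟩ : ∃ q ∈ P, q ∉ D := by
    by_contra hne
    simp only [not_exists, not_and, not_not] at hne
    have := relIndex_eq_one.2 (fun p hp => hne p hp : P ≤ D)
    omega
  intro p hp
  by_cases hpD : p ∈ D
  · exact hc p hpD
  by_contra hne
  set e := c p with he
  have he1 : e ≠ 1 := by
    intro h0
    apply hne
    have h0' : p * w * p⁻¹ * w⁻¹ = 1 := h0
    rw [mul_inv_eq_one, mul_inv_eq_iff_eq_mul] at h0'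
    exact h0'
  have hez : e ∈ Zc P := T.commutator_mem hp hw
  obtain ⟨heP, hec⟩ := mem_Zc.1 hez
  set σ : G → G := fun y => z * y * z⁻¹ with hσ
  have hσm : ∀ a b, σ (a * b) = σ a * σ b := fun a b => by simp only [hσ]; group
  have hσ3 : ∀ y, σ (σ (σ y)) = y := fun y => by
    simp only [hσ]
    calc z * (z * (z * y * z⁻¹) * z⁻¹) * z⁻¹ = z ^ 3 * y * (z ^ 3)⁻¹ := by
          simp only [pow_succ, pow_zero, one_mul]; group
      _ = y := by rw [T.sc.pow_three, inv_one, one_mul, mul_one]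
  have hσP : ∀ y ∈ P, σ y ∈ P := fun y hy => T.conj_mem hy
  -- the image of `D` under two steps is not inside `D`
  obtain ⟨d, hd, hd2⟩ : ∃ d ∈ D, σ (σ d) ∉ D := by
    by_contra hall
    simp only [not_exists, not_and, not_not] at hall
    have hback : ∀ y ∈ P, σ (σ y) ∈ D → y ∈ D := by
      intro y _ hy
      have := hall _ (hall _ hy)
      have e4 : σ (σ (σ (σ (σ (σ y))))) = y := by rw [hσ3, hσ3]
      rwa [e4] at this
    have h1' : σ (σ q) ∉ D := fun h => hqD (hback q hq h)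
    have h2' : σ q ∉ D := fun h => by
      have := hall _ h
      rw [hσ3] at this
      exact hqD this
    have := T.norm_eq_one hq
    have hin : q * σ q * σ (σ q) ∈ D := by
      show q * (z * q * z⁻¹) * (z * (z * q * z⁻¹) * z⁻¹) ∈ D
      rw [this]; exact one_mem D
    rw [hmem _ (mul_mem hq (hσP q hq)) _ (hσP _ (hσP q hq)), hmem _ hq _ (hσP q hq)] at hin
    tauto
  set r := σ (σ d) with hr
  have hrP : r ∈ P := hσP _ (hσP _ (hDP hd))
  have hcr : c r = e := hconst r hrP p hp hd2 hpD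
  have hcomm2 : r * σ (σ w) * r⁻¹ = σ (σ w) := by
    have : d * w = w * d := hc d hd
    have e2 : r * σ (σ w) = σ (σ w) * r := by
      calc r * σ (σ w) = σ (σ (d * w)) := by rw [hσm d w, hσm (σ d) (σ w)]
        _ = σ (σ (w * d)) := by rw [this]
        _ = σ (σ w) * r := by rw [hσm w d, hσm (σ w) (σ d)]
    rw [e2, mul_inv_cancel_right]
  have hprod : w * σ w * σ (σ w) = 1 := T.norm_eq_one hw
  have hw2 : w * σ w = (σ (σ w))⁻¹ := eq_inv_of_mul_eq_one_left hprod
  have hfix : r * (w * σ w) * r⁻¹ = w * σ w := by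
    rw [hw2, show r * (σ (σ w))⁻¹ * r⁻¹ = (r * σ (σ w) * r⁻¹)⁻¹ by group, hcomm2]
  have hcr' : r * w * r⁻¹ = e * w := by rw [← hcr]; show _ = r * w * r⁻¹ * w⁻¹ * w; group
  -- the second factor
  set r₁ := σ d with hr₁
  have hkey : r * σ w * r⁻¹ = σ w ∨ r * σ w * r⁻¹ = σ e * σ w := by
    by_cases hs : r₁ ∈ D
    · left
      have : r₁ * w = w * r₁ := hc _ hs
      have e2 : r * σ w = σ w * r := by rw [hr, ← hσm, this, hσm]
      rw [e2, mul_inv_cancel_right]
    · right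
      have h1' : c r₁ = e := hconst r₁ (hσP _ (hDP hd)) p hp hs hpD
      have h1'' : r₁ * w * r₁⁻¹ = e * w := by
        rw [← h1']; show _ = r₁ * w * r₁⁻¹ * w⁻¹ * w; group
      rw [hr, ← hσm e w, ← h1'']
      simp only [hσ]; group
  have hsplit : r * (w * σ w) * r⁻¹ = (r * w * r⁻¹) * (r * σ w * r⁻¹) := by group
  rw [hsplit, hcr'] at hfix
  rcases hkey with hk | hk <;> rw [hk] at hfix
  · apply he1
    refine mul_right_cancel (b := w * σ w) ?_
    rw [one_mul, ← mul_assoc]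
    exact hfix
  · have hcen : w * σ e = σ e * w := (mem_Zc.1 ((mem_normalizer_iff.1 T.Zc_norm e).1 hez)).2 w hw
    have h3 : e * σ e = 1 := by
      have : e * σ e * (w * σ w) = 1 * (w * σ w) := by
        calc e * σ e * (w * σ w) = e * (σ e * w) * σ w := by group
          _ = e * w * (σ e * σ w) := by rw [← hcen]; group
          _ = w * σ w := hfix
          _ = 1 * (w * σ w) := (one_mul _).symm
      exact mul_right_cancel this
    have h4 : σ (σ e) = 1 := by
      have := T.norm_eq_one heP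
      change e * σ e * σ (σ e) = 1 at this
      rwa [h3, one_mul] at this
    apply he1
    have h5 := hσ3 e
    rw [h4] at h5
    rw [← h5]
    simp [hσ]

end TwoInv

/-- An element inverting `z` modulo elements acting trivially on the central layers of `P`. -/
structure Flip (z a : G) (P : Subgroup G) : Prop where
  norm : a ∈ normalizer (P : Set G)
  inverts : ∃ m : G, a * z * a⁻¹ = m * z⁻¹ ∧ (∀ p ∈ Zc P, m * p * m⁻¹ = p) ∧
    ∀ p ∈ P, m * p * m⁻¹ * p⁻¹ ∈ Zc P

namespace Flip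

variable {a : G} (F : Flip z a P) (T : TwoInv z P)
include F T

/-- No hyperplane is centralised. -/
theorem card_le {D : Subgroup G} (hDP : D ≤ P) (hD : D.relIndex P ≤ 2)
    (hc : ∀ d ∈ D, a * d = d * a) : Nat.card P ≤ 4 := by
  obtain ⟨m, hm, hmZ, hmP⟩ := F.inverts
  have hrel : ∀ p : G, a * (z * p * z⁻¹) * a⁻¹ = m * (z⁻¹ * (a * p * a⁻¹) * z) * m⁻¹ := by
    intro p
    calc a * (z * p * z⁻¹) * a⁻¹ = (a * z * a⁻¹) * (a * p * a⁻¹) * (a * z * a⁻¹)⁻¹ := by group
      _ = m * (z⁻¹ * (a * p * a⁻¹) * z) * m⁻¹ := by rw [hm]; group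
  have hfixd : ∀ d ∈ D, a * d * a⁻¹ = d := fun d hd => by rw [hc d hd, mul_inv_cancel_right]
  let D' : Subgroup G := D.comap (MulAut.conj z).toMonoidHom
  have hD' : ∀ y, y ∈ D' ↔ z * y * z⁻¹ ∈ D := fun y => Iff.rfl
  -- on the centre
  have hZ : D ⊓ D' ⊓ Zc P = ⊥ := by
    refine eq_bot_iff.2 fun p hp => ?_
    obtain ⟨⟨hpD, hpD'⟩, hpZ⟩ := hp
    have hzz : z⁻¹ * p * z ∈ Zc P := (mem_normalizer_iff.1 (inv_mem T.Zc_norm) p).1 hpZ |> fun h => by
      simpa using h
    have e := hrel p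
    rw [hfixd p hpD, hfixd _ ((hD' p).1 hpD'), hmZ _ hzz] at e
    have e2 : z * (z * p * z⁻¹) * z⁻¹ = p := by rw [e]; group
    have e3 : z * p * z⁻¹ = p := by
      calc z * p * z⁻¹ = z * (z * (z * p * z⁻¹) * z⁻¹) * z⁻¹ := by rw [e2]
        _ = z ^ 3 * p * (z ^ 3)⁻¹ := by simp only [pow_succ, pow_zero, one_mul]; group
        _ = p := by rw [T.sc.pow_three, inv_one, one_mul, mul_one]
    exact T.eq_one_of_fixed (Zc_le hpZ) e3
  have hD'P : D'.relIndex P = D.relIndex P := by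
    have hP' : P.comap (MulAut.conj z).toMonoidHom = P := by
      ext y; exact (mem_normalizer_iff.1 T.norm y).symm
    conv_lhs => rw [← hP']
    rw [relIndex_comap, map_comap_eq_self_of_surjective (MulAut.conj z).surjective]
  have hidx : (D ⊓ D').relIndex P ≤ 4 :=
    relIndex_inf_le.trans (Nat.mul_le_mul hD (hD'P ▸ hD))
  have hZ4 : Nat.card (Zc P) ≤ 4 := by
    refine le_trans ?_ ((relIndex_le_of_le_right (H := D ⊓ D') (Zc_le (P := P))
      FiniteIndex.index_ne_zero).trans hidx)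
    rw [← inf_relIndex_right, hZ, relIndex_bot_left]
  -- modulo the centre
  have hQ : D ⊓ D' ⊓ P ≤ Zc P := by
    rintro p ⟨⟨hpD, hpD'⟩, hpP⟩
    have e := hrel p
    rw [hfixd p hpD, hfixd _ ((hD' p).1 hpD')] at e
    have hzp : z⁻¹ * p * z ∈ P := T.conj_inv_mem hpP
    have hcm : (z * p * z⁻¹) * (z⁻¹ * p * z)⁻¹ ∈ Zc P := by
      have := hmP _ hzp
      rwa [← e] at this
    have h2 := (mem_normalizer_iff.1 T.Zc_norm _).1 hcm
    have e2 : z * ((z * p * z⁻¹) * (z⁻¹ * p * z)⁻¹) * z⁻¹ = z * (z * p * z⁻¹) * z⁻¹ * p⁻¹ := by group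
    rw [e2] at h2
    -- the quotient is fixed-point-free
    have hzc : z * (z * p * z⁻¹) * z⁻¹ * p⁻¹ ∈ Zc P := h2
    let Z := (Zc P).subgroupOf P
    have hn : Z.Normal := normal_subgroupOf_of_le_normalizer
      (le_normalizer.trans (normalizer_le_normalizer_Zc P))
    have hk : Inv z (Zc P) := ⟨T.Zc_inv.three_not_dvd, T.Zc_norm⟩
    obtain ⟨b, hb, eb⟩ := T.sc.inv.exists_conj (K := Zc P) hk.1 (inv_mem hk.2)
      (show (p * (z⁻¹ * p⁻¹ * z)) ∈ Zc P by
        have h3 := (mem_normalizer_iff.1 (T.Zc_norm) _).1 hzc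
        have e3 : z * (z * (z * p * z⁻¹) * z⁻¹ * p⁻¹) * z⁻¹ =
            (z ^ 3 * p * (z ^ 3)⁻¹) * (z * p * z⁻¹)⁻¹ := by
          simp only [pow_succ, pow_zero, one_mul]; group
        rw [e3, T.sc.pow_three, inv_one, one_mul, mul_one] at h3
        have h4 := inv_mem ((mem_normalizer_iff.1 (inv_mem T.Zc_norm) _).1 h3)
        have e4 : (z⁻¹ * (p * (z * p * z⁻¹)⁻¹) * z⁻¹⁻¹)⁻¹ = p * (z⁻¹ * p⁻¹ * z) := by group
        rwa [e4] at h4)
    have hbp : b * p = 1 := by
      refine T.eq_one_of_fixed (mul_mem (Zc_le hb) hpP) ?_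
      have e5 : b * p * z⁻¹ = z⁻¹ * (b * p) := by
        calc b * p * z⁻¹ = b * (p * (z⁻¹ * p⁻¹ * z) * z⁻¹) * p := by group
          _ = z⁻¹ * (b * p) := by rw [eb]; group
      calc z * (b * p) * z⁻¹ = z * (b * p * z⁻¹) := by group
        _ = b * p := by rw [e5]; group
    rw [show p = b⁻¹ from eq_inv_of_mul_eq_one_right hbp]
    exact inv_mem hb
  have hQ4 : (Zc P).relIndex P ≤ 4 := by
    refine le_trans ?_ hidx
    rw [← inf_relIndex_right (D ⊓ D') P]
    exact relIndex_le_of_le_left hQ FiniteIndex.index_ne_zero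
  have hcardP : Nat.card P = Nat.card (Zc P) * (Zc P).relIndex P := by
    rw [← (subgroupOfEquivOfLe (Zc_le (P := P))).toEquiv |> Nat.card_congr]
    exact (card_mul_index _).symm
  by_contra hP
  have hne : ∃ w ∈ P, w ∉ Zc P := by
    by_contra hh
    simp only [not_exists, not_and, not_not] at hh
    have : Zc P = P := le_antisymm Zc_le hh
    rw [this] at hZ4
    exact hP hZ4
  obtain ⟨w, hwP, hwZ⟩ := hne
  let C := Zc P ⊔ zpowers w
  have hCP : C ≤ P := sup_le Zc_le (zpowers_le.2 hwP)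
  have hlt : C.relIndex P ≤ 2 := by
    have hmul := relIndex_mul_relIndex (Zc P) C P le_sup_left hCP
    have hne1 : (Zc P).relIndex C ≠ 1 := fun e =>
      hwZ (relIndex_eq_one.1 e (mem_sup_right (mem_zpowers w)))
    have hne0 : (Zc P).relIndex C ≠ 0 := FiniteIndex.index_ne_zero
    have : 2 ≤ (Zc P).relIndex C := by omega
    have : 2 * C.relIndex P ≤ 4 := by
      calc 2 * C.relIndex P ≤ (Zc P).relIndex C * C.relIndex P := Nat.mul_le_mul_right _ this
        _ ≤ 4 := hmul ▸ hQ4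
    omega
  refine hwZ (T.central_of_hyperplane hCP hlt hwP fun c hcC => ?_)
  have hle : C ≤ Subgroup.centralizer ({w} : Set G) :=
    sup_le (fun y hy => mem_centralizer_singleton_iff.2 ((mem_Zc.1 hy).2 w hwP).symm)
      (zpowers_le.2 (mem_centralizer_singleton_iff.2 rfl))
  exact mem_centralizer_singleton_iff.1 (hle hcC)

/-- An involution with at most two fixed points. -/
theorem card_le_of_fixed (ha : a * a = 1)
    (hfix : Nat.card {p : P // a * (p : G) = (p : G) * a} ≤ 2) : Nat.card P ≤ 4 := by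
  obtain ⟨m, hm, hmZ, -⟩ := F.inverts
  have hainv : a⁻¹ = a := inv_eq_of_mul_eq_one_right ha
  set β : G → G := fun y => a * y * a⁻¹ with hβ
  have hβm : ∀ p q, β (p * q) = β p * β q := fun p q => by simp only [hβ]; group
  have hβ2 : ∀ p, β (β p) = p := fun p => by
    simp only [hβ]
    calc a * (a * p * a⁻¹) * a⁻¹ = (a * a) * p * (a * a)⁻¹ := by group
      _ = p := by rw [ha, inv_one, one_mul, mul_one]
  have hβfix : ∀ p, a * p = p * a ↔ β p = p := fun p => by
    simp only [hβ]; rw [mul_inv_eq_iff_eq_mul]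
  have hβP : ∀ p ∈ P, β p ∈ P := fun p hp => (mem_normalizer_iff.1 F.norm p).1 hp
  have hβZ : ∀ p ∈ Zc P, β p ∈ Zc P := fun p hp =>
    (mem_normalizer_iff.1 (normalizer_le_normalizer_Zc P F.norm) p).1 hp
  have hzc : ∀ p ∈ Zc P, ∀ q ∈ P, q * p = p * q := fun p hp => (mem_Zc.1 hp).2
  by_contra hP
  have hPne : P ≠ ⊥ := fun e => hP (by rw [e, Subgroup.card_bot]; norm_num)
  have hZne : Zc P ≠ ⊥ := by
    have : Nontrivial P := (nontrivial_iff_ne_bot P).2 hPne
    have : Fact (Nat.Prime 2) := ⟨Nat.prime_two⟩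
    have := T.two.center_nontrivial
    intro e
    rw [Zc, Subgroup.map_eq_bot_iff_of_injective _ P.subtype_injective] at e
    exact (nontrivial_iff_ne_bot _).1 this e
  -- a fixed point in the centre
  obtain ⟨f, hfZ, hf1, hf⟩ : ∃ f ∈ Zc P, f ≠ 1 ∧ β f = f := by
    have : Fact (Nat.Prime 2) := ⟨Nat.prime_two⟩
    obtain ⟨k, hk⟩ := T.Zc_inv.two.exists_card_eq
    have h2 : 2 ∣ Nat.card (Zc P) := by
      rcases k with _ | k
      · exact absurd (card_eq_one.1 (by simpa using hk)) hZne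
      · exact ⟨2 ^ k, by rw [hk, pow_succ']⟩
    obtain ⟨⟨y, hy⟩, hyo⟩ := exists_prime_orderOf_dvd_card' 2 h2
    rw [← orderOf_coe] at hyo
    by_cases h1 : β y * y = 1
    · refine ⟨y, hy, fun e => by simp [e] at hyo, ?_⟩
      rw [eq_inv_of_mul_eq_one_left h1]
      exact inv_eq_of_mul_eq_one_right (by rw [← pow_two, ← hyo]; exact pow_orderOf_eq_one y)
    · refine ⟨_, mul_mem (hβZ y hy) hy, h1, ?_⟩
      rw [hβm, hβ2]
      exact (hzc y hy (β y) (Zc_le (hβZ y hy))).symm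
  have huniq : ∀ p ∈ P, β p = p → p = 1 ∨ p = f := by
    intro p hp hpf
    by_contra hne
    simp only [not_or] at hne
    have : 3 ≤ Nat.card {p : P // a * (p : G) = (p : G) * a} := by
      let g : Fin 3 → {p : P // a * (p : G) = (p : G) * a} :=
        ![⟨1, by simp⟩, ⟨⟨f, Zc_le hfZ⟩, (hβfix f).2 hf⟩, ⟨⟨p, hp⟩, (hβfix p).2 hpf⟩]
      have hg : Function.Injective g := by
        intro i j e
        have e' : ((g i).1 : G) = ((g j).1 : G) := by rw [e]
        fin_cases i <;> fin_cases j <;> simp [g] at e' ⊢ <;>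
          first
            | exact hf1 e' | exact hf1 e'.symm | exact hne.1 e' | exact hne.1 e'.symm
            | exact hne.2 e' | exact hne.2 e'.symm
      have := Nat.card_le_card_of_injective g hg
      simpa using this
    omega
  -- the centre has order at most four
  let κ : Zc P → Zc P := fun p => ⟨β p * (p : G)⁻¹, mul_mem (hβZ p p.2) (inv_mem p.2)⟩
  have hI : ∀ p : Zc P, β (κ p) = ((κ p : Zc P) : G)⁻¹ := fun p => by
    show β (β p * (p : G)⁻¹) = (β p * (p : G)⁻¹)⁻¹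
    rw [hβm, hβ2]
    simp only [hβ]; group
  have hII : ∀ y ∈ Zc P, β y = y⁻¹ → β (z * y * z⁻¹) = (z * y * z⁻¹)⁻¹ → y = 1 := by
    intro y hy h1 h2
    have e : β (z * y * z⁻¹) = m * (z⁻¹ * β y * z) * m⁻¹ := by
      simp only [hβ]
      calc a * (z * y * z⁻¹) * a⁻¹ = (a * z * a⁻¹) * (a * y * a⁻¹) * (a * z * a⁻¹)⁻¹ := by group
        _ = _ := by rw [hm]; group
    have hz' : z⁻¹ * y⁻¹ * z ∈ Zc P := by
      have := (mem_normalizer_iff.1 (inv_mem T.Zc_norm) _).1 (inv_mem hy)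
      rwa [inv_inv] at this
    rw [h1, hmZ _ hz', h2] at e
    have e' : z * y * z⁻¹ = z⁻¹ * y * z := by
      calc z * y * z⁻¹ = ((z * y * z⁻¹)⁻¹)⁻¹ := (inv_inv _).symm
        _ = (z⁻¹ * y⁻¹ * z)⁻¹ := by rw [e]
        _ = z⁻¹ * y * z := by group
    refine T.eq_one_of_fixed (Zc_le hy) ?_
    calc z * y * z⁻¹ = z⁻¹ * y * z := e'
      _ = z ^ 3 * (z⁻¹ * y * z) * (z ^ 3)⁻¹ := by rw [T.sc.pow_three, inv_one, one_mul, mul_one]
      _ = z * (z * y * z⁻¹) * z⁻¹ := by simp only [pow_succ, pow_zero, one_mul]; group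
      _ = z * (z⁻¹ * y * z) * z⁻¹ := by rw [e']
      _ = y := by group
  let I : Subgroup G :=
  { carrier := {y | y ∈ Zc P ∧ β y = y⁻¹}
    one_mem' := ⟨one_mem _, by simp [hβ]⟩
    mul_mem' := fun {p q} hp hq => ⟨mul_mem hp.1 hq.1, by
      rw [hβm, hp.2, hq.2, mul_inv_rev]
      exact hzc _ (inv_mem hq.1) _ (inv_mem (Zc_le hp.1))⟩
    inv_mem' := fun {p} hp => ⟨inv_mem hp.1, by
      rw [show β p⁻¹ = (β p)⁻¹ by simp only [hβ]; group, hp.2]⟩ }
  have hIle : I ≤ Zc P := fun y hy => hy.1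
  have hII' : Nat.card I * Nat.card I ≤ Nat.card (Zc P) := by
    rw [← Nat.card_prod]
    refine Nat.card_le_card_of_injective (fun q : I × I =>
      (⟨(q.1 : G) * (z * q.2 * z⁻¹), mul_mem (hIle q.1.2)
        ((mem_normalizer_iff.1 T.Zc_norm _).1 (hIle q.2.2))⟩ : Zc P)) ?_
    intro q q' e
    have e' : (q.1 : G) * (z * q.2 * z⁻¹) = (q'.1 : G) * (z * q'.2 * z⁻¹) := congrArg Subtype.val e
    have e'' : z * ((q.2 : G) * (q'.2 : G)⁻¹) * z⁻¹ = (q.1 : G)⁻¹ * q'.1 := by
      calc z * ((q.2 : G) * (q'.2 : G)⁻¹) * z⁻¹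
          = (q.1 : G)⁻¹ * ((q.1 : G) * (z * q.2 * z⁻¹)) * (z * q'.2 * z⁻¹)⁻¹ := by group
        _ = _ := by rw [e']; group
    have hb2 : (q.2 : G) * (q'.2 : G)⁻¹ ∈ I := mul_mem q.2.2 (inv_mem q'.2.2)
    have hb1 : (q.1 : G)⁻¹ * q'.1 ∈ I := mul_mem (inv_mem q.1.2) q'.1.2
    have := hII _ hb2.1 hb2.2 (by rw [e'']; exact hb1.2)
    rw [this, mul_one, mul_inv_cancel] at e''
    exact Prod.ext (Subtype.ext (inv_mul_eq_one.1 e''.symm)) (Subtype.ext (mul_inv_eq_one.1 this))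
  let κh : Zc P →* I :=
  { toFun := fun p => ⟨κ p, (κ p).2, hI p⟩
    map_one' := Subtype.ext (by simp [κ, hβ])
    map_mul' := fun p q => Subtype.ext (by
      show β ((p : G) * q) * ((p : G) * q)⁻¹ = (β p * (p : G)⁻¹) * (β q * (q : G)⁻¹)
      rw [hβm, mul_inv_rev]
      calc β p * β q * ((q : G)⁻¹ * (p : G)⁻¹) = β p * (β q * (q : G)⁻¹) * (p : G)⁻¹ := by group
        _ = β p * ((p : G)⁻¹ * (β q * (q : G)⁻¹)) := by
          rw [mul_assoc, hzc _ (inv_mem p.2) _ (Zc_le (mul_mem (hβZ q q.2) (inv_mem q.2)))]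
        _ = _ := by group) }
  have hker : Nat.card κh.ker ≤ 2 := by
    refine le_trans (Nat.card_le_card_of_injective
      (fun p => (⟨⟨(p.1 : G), Zc_le p.1.2⟩, ?_⟩ : {p : P // a * (p : G) = (p : G) * a})) ?_) hfix
    · have : β (p.1 : G) * (p.1 : G)⁻¹ = 1 := congrArg (fun y : I => (y : G)) p.2
      exact (hβfix _).2 (mul_inv_eq_one.1 this)
    · intro p q e
      exact Subtype.ext (Subtype.ext (congrArg (fun y => (y.1 : G)) e))
  have hsplit : Nat.card (Zc P) = Nat.card κh.range * Nat.card κh.ker := by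
    rw [κh.ker.card_eq_card_quotient_mul_card_subgroup,
      Nat.card_congr (QuotientGroup.quotientKerEquivRange κh).toEquiv]
  have hr : Nat.card κh.range ≤ Nat.card I := Subgroup.card_le_card_group _
  have hkerpos : 0 < Nat.card κh.ker := Nat.card_pos
  have hIpos : 0 < Nat.card I := Nat.card_pos
  have hZI : Nat.card (Zc P) ≤ 2 * Nat.card I := by
    rw [hsplit, mul_comm 2]; exact Nat.mul_le_mul hr hker
  have hI2 : Nat.card I ≤ 2 := by nlinarith
  -- the range is everything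
  have hZ4 : Nat.card (Zc P) = 4 := by
    rcases T.Zc_inv.card_le_four_or with e | e | e
    · exact absurd (card_eq_one.1 e) hZne
    · exact e
    · omega
  have hsurj : Function.Surjective κh := by
    refine MonoidHom.range_eq_top.1 (Subgroup.eq_top_of_card_eq _ ?_)
    have : 4 ≤ Nat.card κh.range * 2 := by
      rw [← hZ4, hsplit]; exact Nat.mul_le_mul_left _ hker
    omega
  have hclaim : ∀ p ∈ P, β p * p⁻¹ ∈ Zc P → p ∈ Zc P := by
    intro p hp hpc
    have hinvI : β p * p⁻¹ ∈ I := by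
      refine ⟨hpc, ?_⟩
      rw [hβm, hβ2]
      simp only [hβ]; group
    obtain ⟨w, hw⟩ := hsurj ⟨_, hinvI⟩
    have hw' : β (w : G) * (w : G)⁻¹ = β p * p⁻¹ := congrArg Subtype.val hw
    have hfx : β (p * (w : G)⁻¹) = p * (w : G)⁻¹ := by
      rw [hβm, show β (w : G)⁻¹ = (β w)⁻¹ by simp only [hβ]; group,
        show β (w : G) = β p * p⁻¹ * w by rw [← hw', inv_mul_cancel_right]]
      obtain ⟨c, hc⟩ : ∃ c, c = β p * p⁻¹ := ⟨_, rfl⟩
      have hcp : β p = c * p := by rw [hc, inv_mul_cancel_right]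
      rw [hcp]
      calc c * p * (c * p * p⁻¹ * (w : G))⁻¹ = c * (p * (w : G)⁻¹) * c⁻¹ := by group
        _ = p * (w : G)⁻¹ := by
          rw [← hzc c (hc ▸ hpc) _ (mul_mem hp (inv_mem (Zc_le w.2))), mul_inv_cancel_right]
    have hpw : p * (w : G)⁻¹ ∈ Zc P := by
      rcases huniq _ (mul_mem hp (inv_mem (Zc_le w.2))) hfx with e | e <;> rw [e]
      exacts [one_mem _, hfZ]
    simpa using mul_mem hpw w.2
  have hall : P ≤ Zc P := by
    by_contra hh
    let Zs := (Zc P).subgroupOf P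
    have : Zs.Normal := normal_subgroupOf_of_le_normalizer
      (le_normalizer.trans (normalizer_le_normalizer_Zc P))
    have : Fact (Nat.Prime 2) := ⟨Nat.prime_two⟩
    have hQ : IsPGroup 2 (P ⧸ Zs) := T.two.to_quotient Zs
    have h2 : 2 ∣ Nat.card (P ⧸ Zs) := by
      obtain ⟨k, hk⟩ := hQ.exists_card_eq
      rcases k with _ | k
      · exfalso
        apply hh
        have e1 : Zs.index = 1 := by rw [Subgroup.index]; simpa using hk
        exact subgroupOf_eq_top.1 (index_eq_one.1 e1)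
      · exact ⟨2 ^ k, by rw [hk, pow_succ']⟩
    obtain ⟨y, hy⟩ := exists_prime_orderOf_dvd_card' 2 h2
    obtain ⟨⟨y, hyP⟩, rfl⟩ := QuotientGroup.mk_surjective y
    have hynot : y ∉ Zc P := fun hh => by
      rw [(QuotientGroup.eq_one_iff _).2 (mem_subgroupOf.2 hh)] at hy
      simp at hy
    have hy2 : y * y ∈ Zc P := by
      have := pow_orderOf_eq_one (QuotientGroup.mk (⟨y, hyP⟩ : P) : P ⧸ Zs)
      rw [hy, ← QuotientGroup.mk_pow, QuotientGroup.eq_one_iff, mem_subgroupOf] at this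
      simpa [pow_two] using this
    have hfixq : β (β y * y) * (β y * y)⁻¹ ∈ Zc P := by
      rw [hβm, hβ2]
      have := T.commutator_mem hyP (hβP y hyP)
      rwa [mul_inv_rev, ← mul_assoc]
    have h1 := hclaim _ (mul_mem (hβP y hyP) hyP) hfixq
    have h3 : β y * y⁻¹ ∈ Zc P := by
      have := mul_mem h1 (inv_mem hy2)
      rwa [show β y * y * (y * y)⁻¹ = β y * y⁻¹ by group] at this
    exact hynot (hclaim y hyP h3)
  exact hP ((card_le_of_le hall).trans hZ4.le)

end Flip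

end Cfsg.Agent.Lib.Spectrum.SelfThree
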