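import Cfsg.Agent.Lib.Spectrum.SelfThree.Count
import Cfsg.Agent.Lib.Frobenius.Nilpotent
import Cfsg.Agent.S0494

/-!
# Maximal invariant subgroups and their normalisers

In a simple group all of whose proper subgroups through a self-centralising element of order three
have the known shape, a maximal invariant subgroup `M` has `|N(M)| = 3|M|` or `6|M|`, and the
normalisers of its Sylow subgroups are `N(M)`.
-/

namespace Cfsg.Agent.Lib.Spectrum.SelfThree

open Subgroup
open scoped Pointwise

universe u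

variable {G : Type u} [Group G] [Finite G]

/-- The shapes of groups with a self-centralising element of order three. -/
def Shape (G : Type u) [Group G] : Prop :=
  (∃ N : Subgroup G, N.Normal ∧ ¬ 3 ∣ Nat.card N ∧ (N.index = 3 ∨ N.index = 6)) ∨
  (∃ (N : Subgroup G) (_ : N.Normal), (∀ n ∈ N, n ^ 2 = 1) ∧ Nat.card (G ⧸ N) = 60 ∧
    IsSimpleGroup (G ⧸ N)) ∨
  (Nat.card G = 168 ∧ IsSimpleGroup G)

/-- A maximal invariant subgroup. -/
def MaxInv (x : G) (M : Subgroup G) : Prop := Inv x M ∧ ∀ M', Inv x M' → M ≤ M' → M' = M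

theorem Inv.inv {x : G} {M : Subgroup G} (h : Inv x M) : Inv x⁻¹ M := ⟨h.1, inv_mem h.2⟩

theorem Inv.map {H : Type*} [Group H] (e : G ≃* H) {x : G} {M : Subgroup G} (h : Inv x M) :
    Inv (e x) (M.map e.toMonoidHom) := by
  refine ⟨by rw [card_map_of_injective e.injective]; exact h.1, ?_⟩
  rw [mem_normalizer_iff]
  intro y
  obtain ⟨y, rfl⟩ := e.surjective y
  have e1 : e x * e y * (e x)⁻¹ = e (x * y * x⁻¹) := by simp
  rw [e1]
  simp only [Subgroup.mem_map, MulEquiv.coe_toMonoidHom, EmbeddingLike.apply_eq_iff_eq,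
    exists_eq_right]
  exact mem_normalizer_iff.1 h.2 y

theorem Inv.conj {x : G} {M : Subgroup G} (h : Inv x M) (g : G) :
    Inv (g * x * g⁻¹) (M.map (MulAut.conj g).toMonoidHom) := h.map (MulAut.conj g)

theorem map_conj_inv (M : Subgroup G) (g : G) :
    (M.map (MulAut.conj g).toMonoidHom).map (MulAut.conj g⁻¹).toMonoidHom = M := by
  rw [Subgroup.map_map, show ((MulAut.conj g⁻¹).toMonoidHom.comp (MulAut.conj g).toMonoidHom) =
    MonoidHom.id G from by ext a; simp [mul_assoc], Subgroup.map_id]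

theorem MaxInv.conj {x : G} {M : Subgroup G} (h : MaxInv x M) (g : G) :
    MaxInv (g * x * g⁻¹) (M.map (MulAut.conj g).toMonoidHom) := by
  refine ⟨h.1.conj g, fun M' hM' hle => ?_⟩
  have h1 : Inv x (M'.map (MulAut.conj g⁻¹).toMonoidHom) := by
    have := hM'.conj g⁻¹
    rwa [show g⁻¹ * (g * x * g⁻¹) * g⁻¹⁻¹ = x by group] at this
  have h2 := h.2 _ h1 (by rw [← map_conj_inv M g]; exact Subgroup.map_mono hle)
  rw [← h2]
  have := map_conj_inv M' g⁻¹
  rw [inv_inv] at this
  exact this.symm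

theorem MaxInv.inv {x : G} {M : Subgroup G} (h : MaxInv x M) : MaxInv x⁻¹ M :=
  ⟨h.1.inv, fun M' hM' => h.2 M' (by simpa using hM'.inv)⟩

theorem Inv.exists_maxInv {x : G} {A : Subgroup G} (h : Inv x A) :
    ∃ M, MaxInv x M ∧ A ≤ M := by
  obtain ⟨M, hAM, hM⟩ := Finite.exists_le_maximal (p := Inv x) h
  exact ⟨M, ⟨hM.1, fun M' hM' hle => le_antisymm (hM.2 hM' hle) hle⟩, hAM⟩

theorem Inv.isNilpotent {x : G} (hx : SC x) {K : Subgroup G} (h : Inv x K) : Group.IsNilpotent K := by
  let φ : K ≃* K := K.normalizerMonoidHom ⟨x, h.2⟩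
  refine Frobenius.Nilpotent.isNilpotent_of_fixedPointFree Nat.prime_three φ ?_ ?_
  · intro k hk
    have e : x * (k : G) * x⁻¹ = k := congrArg Subtype.val hk
    exact Subtype.ext (hx.eq_one_of_commute h.1 k.2 (mul_inv_eq_iff_eq_mul.1 e).symm)
  · intro k
    refine Subtype.ext ?_
    show x * (x * (x * (k : G) * x⁻¹) * x⁻¹) * x⁻¹ = k
    calc x * (x * (x * (k : G) * x⁻¹) * x⁻¹) * x⁻¹ = x ^ 3 * k * (x ^ 3)⁻¹ := by
          simp only [pow_succ, pow_zero, one_mul]; group
      _ = k := by rw [hx.pow_three, inv_one, one_mul, mul_one]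

/-! ### Groups of order sixty -/

theorem exists_inv_four {Q : Type u} [Group Q] [Finite Q] [IsSimpleGroup Q] (hQ : Nat.card Q = 60)
    {z : Q} (hz : SC z) : ∃ Y : Subgroup Q, Inv z Y ∧ Nat.card Y = 4 := by
  obtain ⟨e⟩ := Cfsg.Agent.S0494.result hQ
  let V : Subgroup (alternatingGroup (Fin 5)) :=
  { carrier := {σ | (σ : Equiv.Perm (Fin 5)) 4 = 4 ∧ σ * σ = 1}
    one_mem' := by simp
    mul_mem' := by
      intro a b; revert a b
      decide +kernel
    inv_mem' := by
      intro a; revert a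
      decide +kernel }
  let a : alternatingGroup (Fin 5) := ⟨Equiv.swap 0 1 * Equiv.swap 1 2, by rw [Equiv.Perm.mem_alternatingGroup]; decide⟩
  have hV : Nat.card V = 4 := by
    show Nat.card {σ : alternatingGroup (Fin 5) // (σ : Equiv.Perm (Fin 5)) 4 = 4 ∧ σ * σ = 1} = 4
    rw [Nat.card_eq_fintype_card]
    decide +kernel
  have ha : Inv a V := by
    refine ⟨by rw [hV]; norm_num, mem_normalizer_fintype ?_⟩
    show ∀ n : alternatingGroup (Fin 5), ((n : Equiv.Perm (Fin 5)) 4 = 4 ∧ n * n = 1) →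
      ((a * n * a⁻¹ : alternatingGroup (Fin 5)) : Equiv.Perm (Fin 5)) 4 = 4 ∧
        (a * n * a⁻¹) * (a * n * a⁻¹) = 1
    decide +kernel
  have hy : (e.symm a) ^ 3 = 1 := by
    rw [← map_pow, show a ^ 3 = 1 by decide +kernel, map_one]
  have hy1 : e.symm a ≠ 1 := by
    rw [Ne, EmbeddingLike.map_eq_one_iff]; decide +kernel
  have hV' := ha.map e.symm
  have hc : Nat.card (V.map e.symm.toMonoidHom) = 4 := by
    rw [card_map_of_injective e.symm.injective, hV]
  rcases hz.conj_of_pow_three hy hy1 with hcj | hcj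
  · obtain ⟨g, hg⟩ := isConj_iff.1 hcj.symm
    exact ⟨_, hg ▸ hV'.conj g, by rw [card_map_of_injective (MulAut.conj g).injective, hc]⟩
  · obtain ⟨g, hg⟩ := isConj_iff.1 hcj.symm
    exact ⟨_, inv_inv z ▸ (hg ▸ hV'.conj g).inv,
      by rw [card_map_of_injective (MulAut.conj g).injective, hc]⟩

theorem card_inv_sixty {Q : Type u} [Group Q] [Finite Q] [IsSimpleGroup Q] (hQ : Nat.card Q = 60)
    {z : Q} (hz : SC z) {Y : Subgroup Q} (hY : Inv z Y) :
    Nat.card Y = 1 ∨ Nat.card Y = 4 := by
  have h1 : Nat.card Y % 3 = 1 := hz.card_modEq hY.1 hY.2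
  have h2 : Nat.card Y ∣ 60 := hQ ▸ Y.card_subgroup_dvd_card
  have h3 : Nat.card Y ∣ 20 :=
    (Nat.Coprime.dvd_of_dvd_mul_left (Nat.prime_three.coprime_iff_not_dvd.2 hY.1).symm
      (show Nat.card Y ∣ 3 * 20 from h2))
  have h4 : Nat.card Y ≤ 20 := Nat.le_of_dvd (by norm_num) h3
  by_contra hne
  push Not at hne
  have h10 : Nat.card Y = 10 := by
    generalize Nat.card Y = k at h1 h3 h4 hne
    interval_cases k <;> omega
  let S := Y ⊔ zpowers z
  have hdisj : Y ⊓ zpowers z = ⊥ := by
    refine eq_bot_iff.2 fun w hw => ?_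
    obtain ⟨k, hk⟩ := mem_zpowers_iff.1 hw.2
    exact hz.eq_one_of_commute hY.1 hw.1 (hk ▸ (Commute.self_zpow z k).symm)
  have hS : Nat.card S = 30 := by
    have e : ((Y ⊔ zpowers z : Subgroup Q) : Set Q) = (Y : Set Q) * (zpowers z : Set Q) :=
      coe_mul_of_right_le_normalizer_left _ _ (zpowers_le.2 hY.2)
    have e2 : Nat.card ((Y : Set Q) * (zpowers z : Set Q) : Set Q) =
        Nat.card Y * Nat.card (zpowers z) := by
      rw [← Nat.card_prod]
      refine (Nat.card_congr (Equiv.ofBijective (fun w : Y × zpowers z =>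
        (⟨(w.1 : Q) * w.2, Set.mul_mem_mul w.1.2 w.2.2⟩ : ((Y : Set Q) * (zpowers z : Set Q) : Set Q)))
        ⟨?_, ?_⟩)).symm
      · intro w w' he
        have he' : (w.1 : Q) * w.2 = w'.1 * w'.2 := congrArg Subtype.val he
        have := Subgroup.mul_injective_of_disjoint (disjoint_iff.2 hdisj) he'
        exact this
      · rintro ⟨_, a, ha, b, hb, rfl⟩
        exact ⟨(⟨a, ha⟩, ⟨b, hb⟩), rfl⟩
    show Nat.card ((Y ⊔ zpowers z : Subgroup Q) : Set Q) = 30
    rw [e, e2, h10, hz.card_zpowers]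
  have hidx : S.index = 2 := by
    have := S.card_mul_index
    rw [hS, hQ] at this
    omega
  rcases (normal_of_index_eq_two hidx).eq_bot_or_eq_top with e | e
  · rw [e, Subgroup.card_bot] at hS; omega
  · rw [e, Subgroup.index_top] at hidx; omega

/-! ### Local subgroups -/

variable (G) in
/-- A simple group whose proper subgroups have the known shape. -/
structure Ctx : Prop where
  simple : IsSimpleGroup G
  noncomm : ¬ IsMulCommutative G
  shape : ∀ L : Subgroup G, L ≠ ⊤ → ∀ z, SC z → z ∈ L → Shape L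

omit [Finite G] in
theorem inv_subgroupOf {z : G} {L Y : Subgroup G} (hz : z ∈ L) (hY : Inv z Y) (hYL : Y ≤ L) :
    Inv (⟨z, hz⟩ : L) (Y.subgroupOf L) := by
  refine ⟨by rw [Nat.card_congr (subgroupOfEquivOfLe hYL).toEquiv]; exact hY.1, ?_⟩
  rw [mem_normalizer_iff]
  exact fun y => mem_normalizer_iff.1 hY.2 y

omit [Finite G] in
theorem inv_map_subtype {L : Subgroup G} {z : L} {Y : Subgroup L} (hY : Inv z Y) :
    Inv (z : G) (Y.map L.subtype) := by
  refine ⟨by rw [card_map_of_injective L.subtype_injective]; exact hY.1, mem_normalizer_iff.2 ?_⟩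
  intro y
  constructor
  · rintro ⟨w, hw, rfl⟩
    exact ⟨z * w * z⁻¹, (mem_normalizer_iff.1 hY.2 w).1 hw, rfl⟩
  · rintro ⟨w, hw, e⟩
    refine ⟨z⁻¹ * w * z, ?_, ?_⟩
    · exact (mem_normalizer_iff.1 hY.2 _).2
        ((show z * (z⁻¹ * w * z) * z⁻¹ = w by group).symm ▸ hw)
    · have e' : (w : G) = (z : G) * y * (z : G)⁻¹ := e
      show (z : G)⁻¹ * w * z = y
      rw [e']; group

/-- The subgroups above a maximal invariant one and normalising a nontrivial invariant subgroup. -/
theorem local_cases (hG : Ctx G) {L W : Subgroup G} (hL : L ≠ ⊤) (hW : W ≠ ⊥) (hWL : W ≤ L)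
    (hLW : L ≤ normalizer (W : Set G)) (hW3 : ¬ 3 ∣ Nat.card W) {z : G} (hz : SC z) (hzL : z ∈ L) :
    (∃ N : Subgroup G, L ≤ normalizer (N : Set G) ∧
      (Nat.card L = 3 * Nat.card N ∨ Nat.card L = 6 * Nat.card N) ∧
      ∀ z' M', SC z' → z' ∈ L → MaxInv z' M' → M' ≤ L → M' = N) ∨
    (∀ z' M', SC z' → z' ∈ L → MaxInv z' M' → M' ≤ L → IsPGroup 2 M' ∧ ¬ L ≤ normalizer (M' : Set G) ∧
      ∀ R ≤ L, IsPGroup 2 R → Nat.card R ≤ Nat.card M') := by
  rcases hG.shape L hL z hz hzL with ⟨N, hN, hN3, hidx⟩ | ⟨N, hN, hN2, hc, hs⟩ | ⟨-, hs⟩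
  · left
    refine ⟨N.map L.subtype, ?_, ?_, fun z' M' hz' hz'L hM' hM'L => ?_⟩
    · intro l hl
      have hn : (⟨l, hl⟩ : L) ∈ normalizer (N : Set L) := by rw [normalizer_eq_top]; exact mem_top _
      have := le_normalizer_map L.subtype (mem_map_of_mem L.subtype hn)
      exact this
    · rw [card_map_of_injective L.subtype_injective, ← N.card_mul_index]
      rcases hidx with e | e <;> rw [e] <;> [left; right] <;> ring
    · let zL : L := ⟨z', hz'L⟩
      have hzs : SC zL := hz'.subgroup L hz'L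
      have hzN : zL ∈ normalizer (N : Set L) := by rw [normalizer_eq_top]; exact mem_top _
      have hle : M'.subgroupOf L ≤ N := by
        have hq : SC (zL : L ⧸ N) := hzs.quotient hN3
        have hI := inv_subgroupOf hz'L hM'.1 hM'L
        set Yb := (M'.subgroupOf L).map (QuotientGroup.mk' N) with hYb
        have h3 : ¬ 3 ∣ Nat.card Yb := fun h3 => hI.1 (h3.trans (card_map_dvd _ _))
        have hn : (zL : L ⧸ N) ∈ normalizer (Yb : Set (L ⧸ N)) :=
          le_normalizer_map _ (mem_map_of_mem (QuotientGroup.mk' N) hI.2)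
        have h1 : Nat.card Yb % 3 = 1 := hq.card_modEq h3 hn
        have h2 : Nat.card Yb ∣ N.index := Yb.card_subgroup_dvd_card
        have : Nat.card Yb = 1 := by
          have hle : Nat.card Yb ≤ 6 := by
            refine Nat.le_of_dvd (by norm_num) (h2.trans ?_)
            rcases hidx with e | e <;> rw [e]
            norm_num
          rcases hidx with e | e <;> rw [e] at h2 <;> generalize Nat.card Yb = k at h1 h2 h3 hle <;>
            interval_cases k <;> omega
        rwa [hYb, card_eq_one, Subgroup.map_eq_bot_iff, QuotientGroup.ker_mk'] at this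
      have hM'N : M' ≤ N.map L.subtype := fun y hy => ⟨⟨y, hM'L hy⟩, hle (mem_subgroupOf.2 hy), rfl⟩
      exact (hM'.2 _ (inv_map_subtype (z := zL) ⟨hN3, hzN⟩) hM'N).symm
  · right
    intro z' M' hz' hz'L hM' hM'L
    have hp2 : IsPGroup 2 N := fun n => ⟨1, Subtype.ext (by simpa using hN2 n n.2)⟩
    obtain ⟨k, hk⟩ := hp2.exists_card_eq
    have hN3 : ¬ 3 ∣ Nat.card N := fun h3 => by
      rw [hk] at h3
      have := Nat.prime_three.dvd_of_dvd_pow h3
      norm_num at this
    let zL : L := ⟨z', hz'L⟩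
    have hzs : SC zL := hz'.subgroup L hz'L
    have hq : SC (zL : L ⧸ N) := hzs.quotient hN3
    have hI := inv_subgroupOf hz'L hM'.1 hM'L
    set Y := M'.subgroupOf L with hY
    have hsupI : Inv zL (Y ⊔ N) := by
      refine ⟨?_, ?_⟩
      · intro h3
        have hcm : (Y.map (QuotientGroup.mk' N)).comap (QuotientGroup.mk' N) = Y ⊔ N := by
          rw [comap_map_eq, QuotientGroup.ker_mk']
        rw [← hcm, show Nat.card ((Y.map (QuotientGroup.mk' N)).comap (QuotientGroup.mk' N)) =
          Nat.card N * Nat.card (Y.map (QuotientGroup.mk' N)) from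
          QuotientGroup.card_preimage_mk N ((Y.map (QuotientGroup.mk' N)) : Set (L ⧸ N))] at h3
        rcases Nat.prime_three.dvd_mul.1 h3 with e | e
        exacts [hN3 e, hI.1 (e.trans (card_map_dvd _ _))]
      · rw [mem_normalizer_iff]
        intro y
        have : (Y ⊔ N).map (MulAut.conj zL).toMonoidHom = Y ⊔ N := by
          rw [Subgroup.map_sup]
          congr 1
          · exact (mem_normalizer_iff_map_conj_eq.1 hI.2)
          · exact (mem_normalizer_iff_map_conj_eq.1
              (by rw [normalizer_eq_top]; exact mem_top zL))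
        exact (mem_normalizer_iff.1 (mem_normalizer_iff_map_conj_eq.2 this)) y
    have hNY : N ≤ Y := by
      have e := hM'.2 _ (inv_map_subtype hsupI) (fun y hy =>
        ⟨⟨y, hM'L hy⟩, mem_sup_left (mem_subgroupOf.2 hy), rfl⟩)
      intro n hn
      rw [hY, mem_subgroupOf, ← e]
      exact mem_map_of_mem L.subtype (mem_sup_right hn)
    set Yb := Y.map (QuotientGroup.mk' N) with hYb
    have hcY : Nat.card Y = Nat.card N * Nat.card Yb := by
      have hcm : Yb.comap (QuotientGroup.mk' N) = Y := by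
        rw [hYb, comap_map_eq, QuotientGroup.ker_mk', sup_eq_left.2 hNY]
      conv_lhs => rw [← hcm]
      exact QuotientGroup.card_preimage_mk N (Yb : Set (L ⧸ N))
    have hIb : Inv (zL : L ⧸ N) Yb := ⟨fun h3 => hI.1 (h3.trans (card_map_dvd _ _)),
      le_normalizer_map _ (mem_map_of_mem (QuotientGroup.mk' N) hI.2)⟩
    have h4 : Nat.card Yb = 4 := by
      refine (card_inv_sixty hc hq hIb).resolve_left fun h1 => ?_
      obtain ⟨V, hV, hVc⟩ := exists_inv_four hc hq
      have hbig : Inv zL (V.comap (QuotientGroup.mk' N)) := by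
        refine ⟨?_, le_normalizer_comap _ (mem_comap.2 hV.2)⟩
        have e : Nat.card (V.comap (QuotientGroup.mk' N)) = Nat.card N * Nat.card V :=
          QuotientGroup.card_preimage_mk N (V : Set (L ⧸ N))
        rw [e, hVc]
        intro h3
        rcases Nat.prime_three.dvd_mul.1 h3 with e | e
        exacts [hN3 e, by norm_num at e]
      have hYN : Y ≤ N := by
        have := card_eq_one.1 h1
        rwa [hYb, Subgroup.map_eq_bot_iff, QuotientGroup.ker_mk'] at this
      have hle : Y ≤ V.comap (QuotientGroup.mk' N) := hYN.trans (QuotientGroup.le_comap_mk' N V)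
      have e := hM'.2 _ (inv_map_subtype hbig) (fun y hy => ⟨⟨y, hM'L hy⟩, hle (mem_subgroupOf.2 hy), rfl⟩)
      have : Nat.card ((V.comap (QuotientGroup.mk' N)).map L.subtype) = Nat.card Y := by
        rw [e, hY, Nat.card_congr (subgroupOfEquivOfLe hM'L).toEquiv]
      rw [card_map_of_injective L.subtype_injective,
        show Nat.card (V.comap (QuotientGroup.mk' N)) = Nat.card N * Nat.card V from
          QuotientGroup.card_preimage_mk N (V : Set (L ⧸ N)), hVc, hcY, h1] at this
      have := Nat.card_pos (α := N)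
      omega
    have hM'c : Nat.card M' = Nat.card N * 4 := by
      rw [← h4, ← hcY, hY, Nat.card_congr (subgroupOfEquivOfLe hM'L).toEquiv]
    refine ⟨IsPGroup.of_card (n := k + 2) (by rw [hM'c, hk, pow_add]; norm_num), fun hn => ?_,
      fun R hR hR2 => ?_⟩
    · have hYn : Y.Normal := normal_subgroupOf_of_le_normalizer hn
      have hYbn : Yb.Normal := hYn.map _ (QuotientGroup.mk'_surjective N)
      rcases hYbn.eq_bot_or_eq_top with e | e
      · rw [e, Subgroup.card_bot] at h4; omega
      · rw [e, Subgroup.card_top, hc] at h4; omega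
    · rw [hM'c, ← Nat.card_congr (subgroupOfEquivOfLe hR).toEquiv]
      set R' := (R.subgroupOf L).map (QuotientGroup.mk' N) with hR'
      have hb : Nat.card (R.subgroupOf L) ≤ Nat.card N * Nat.card R' := by
        have hle : R.subgroupOf L ≤ R'.comap (QuotientGroup.mk' N) := le_comap_map _ _
        refine (card_le_of_le hle).trans (le_of_eq ?_)
        exact QuotientGroup.card_preimage_mk N (R' : Set (L ⧸ N))
      refine hb.trans (Nat.mul_le_mul_left _ ?_)
      have hR'2 : IsPGroup 2 R' := ((hR2.comap_of_injective _ L.subtype_injective)).map _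
      obtain ⟨j, hj⟩ := hR'2.exists_card_eq
      have hd : Nat.card R' ∣ 60 := hc ▸ R'.card_subgroup_dvd_card
      rw [hj] at hd ⊢
      by_contra hgt
      push Not at hgt
      have : 2 ^ 3 ∣ 2 ^ j := pow_dvd_pow 2 (by
        by_contra hj3; push Not at hj3; interval_cases j <;> omega)
      have := this.trans hd
      norm_num at this
  · exfalso
    have hWn : (W.subgroupOf L).Normal := normal_subgroupOf_of_le_normalizer hLW
    rcases hWn.eq_bot_or_eq_top with e | e
    · exact hW (by simpa [subgroupOf_eq_bot, disjoint_iff, inf_eq_left.2 hWL] using e)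
    · apply hW3
      rw [← Nat.card_congr (subgroupOfEquivOfLe hWL).toEquiv, e, Subgroup.card_top]
      exact (hz.subgroup L hzL).three_dvd

end Cfsg.Agent.Lib.Spectrum.SelfThree
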