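import Cfsg.Agent.Lib.Spectrum.SelfCentralSimple

/-!
# Elementary facts on a self-centralising element of order three
-/

namespace Cfsg.Agent.Lib.Spectrum.SelfThree

open Subgroup

variable {G : Type*} [Group G] [Finite G]

/-- `x` has order three and generates its own centraliser. -/
structure SC (x : G) : Prop where
  ord : orderOf x = 3
  cent : ∀ y, y * x = x * y → y ∈ zpowers x

namespace SC

variable {x : G} (h : SC x)
include h

omit [Finite G] in
theorem pow_three : x ^ 3 = 1 := h.ord ▸ pow_orderOf_eq_one x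

omit [Finite G] in
theorem ne_one : x ≠ 1 := fun e => by simpa [e] using h.ord

omit [Finite G] in
theorem sq_eq : x ^ 2 = x⁻¹ := by
  rw [eq_inv_iff_mul_eq_one, ← pow_succ]
  exact h.pow_three

omit [Finite G] in
theorem cases_mem {y : G} (hy : y ∈ zpowers x) : y = 1 ∨ y = x ∨ y = x⁻¹ := by
  obtain ⟨k, rfl⟩ := mem_zpowers_iff.1 hy
  rw [← zpow_mod_orderOf, h.ord]
  have h1 : 0 ≤ k % ((3 : ℕ) : ℤ) := Int.emod_nonneg _ (by norm_num)
  have h2 : k % ((3 : ℕ) : ℤ) < 3 := Int.emod_lt_of_pos _ (by norm_num)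
  generalize k % ((3 : ℕ) : ℤ) = j at h1 h2
  interval_cases j
  · simp
  · simp
  · exact Or.inr (Or.inr (by rw [zpow_ofNat, h.sq_eq]))

omit [Finite G] in
theorem card_zpowers : Nat.card (zpowers x) = 3 := by rw [Nat.card_zpowers, h.ord]

theorem card_centralizer : Nat.card (Subgroup.centralizer ({x} : Set G)) = 3 := by
  have : Subgroup.centralizer ({x} : Set G) = zpowers x := le_antisymm
    (fun y hy => h.cent y (mem_centralizer_singleton_iff.1 hy))
    (zpowers_le.2 (mem_centralizer_singleton_iff.2 rfl))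
  rw [this, h.card_zpowers]

theorem three_dvd : 3 ∣ Nat.card G := h.ord ▸ orderOf_dvd_natCard x

theorem sylow_eq (P : Sylow 3 G) (hP : x ∈ (P : Subgroup G)) : (P : Subgroup G) = zpowers x := by
  refine le_antisymm ?_ (zpowers_le.2 hP)
  have : Fact (Nat.Prime 3) := ⟨Nat.prime_three⟩
  have : Nontrivial (P : Subgroup G) :=
    ⟨⟨⟨x, hP⟩, 1, fun e => h.ne_one (congrArg Subtype.val e)⟩⟩
  have := P.isPGroup'.center_nontrivial
  obtain ⟨⟨z, hz⟩, hz1⟩ := exists_ne (1 : center (P : Subgroup G))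
  have hzx := mem_center_iff.1 hz ⟨x, hP⟩
  have hz3 := h.cent (z : G) (congrArg Subtype.val hzx).symm
  have hzx' : zpowers x ≤ zpowers (z : G) := by
    rcases h.cases_mem hz3 with e | e | e
    · exact absurd (Subtype.ext (Subtype.ext e)) hz1
    · rw [e]
    · rw [e, zpowers_inv]
  intro y hy
  have hy' : Commute y (z : G) := congrArg Subtype.val (mem_center_iff.1 hz ⟨y, hy⟩)
  obtain ⟨k, hk⟩ := mem_zpowers_iff.1 (hzx' (mem_zpowers x))
  exact h.cent y (hk ▸ hy'.zpow_right k)

theorem exists_sylow : ∃ P : Sylow 3 G, (P : Subgroup G) = zpowers x := by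
  have hX : IsPGroup 3 (zpowers x) := IsPGroup.of_card (n := 1) (by rw [h.card_zpowers, pow_one])
  obtain ⟨P, hP⟩ := hX.exists_le_sylow
  exact ⟨P, h.sylow_eq P (hP (mem_zpowers x))⟩

theorem not_nine : ¬ 9 ∣ Nat.card G := by
  have : Fact (Nat.Prime 3) := ⟨Nat.prime_three⟩
  obtain ⟨P, hP⟩ := h.exists_sylow
  intro h9
  have := P.card_eq_multiplicity
  rw [hP, h.card_zpowers] at this
  have h2 : 2 ≤ (Nat.card G).factorization 3 :=
    (Nat.prime_three.pow_dvd_iff_le_factorization Nat.card_pos.ne').1 (by norm_num; exact h9)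
  have := Nat.pow_le_pow_right (show 0 < 3 by norm_num) h2
  omega

/-- Elements of order three are conjugate to `x` or to its inverse. -/
theorem conj_of_pow_three {y : G} (hy : y ^ 3 = 1) (hy1 : y ≠ 1) :
    IsConj x y ∨ IsConj x⁻¹ y := by
  have : Fact (Nat.Prime 3) := ⟨Nat.prime_three⟩
  have ho : orderOf y = 3 := orderOf_eq_prime hy hy1
  have hY : IsPGroup 3 (zpowers y) :=
    IsPGroup.of_card (n := 1) (by rw [Nat.card_zpowers, ho, pow_one])
  obtain ⟨Q, hQ⟩ := hY.exists_le_sylow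
  obtain ⟨P, hP⟩ := h.exists_sylow
  obtain ⟨g, hg⟩ := MulAction.exists_smul_eq G Q P
  have : g * y * g⁻¹ ∈ (P : Subgroup G) := by
    rw [← hg, Sylow.coe_subgroup_smul]
    exact smul_mem_pointwise_smul _ (MulAut.conj g) _ (hQ (mem_zpowers y))
  rw [hP] at this
  rcases h.cases_mem this with e | e | e
  · exact absurd (by simpa using e) hy1
  · exact Or.inl (IsConj.symm (isConj_iff.2 ⟨g, e⟩))
  · exact Or.inr (IsConj.symm (isConj_iff.2 ⟨g, e⟩))

omit [Finite G] in
theorem inv : SC x⁻¹ where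
  ord := by rw [orderOf_inv, h.ord]
  cent y hy := by
    rw [zpowers_inv]
    exact h.cent y (Commute.inv_right_iff.1 (show Commute y x⁻¹ from hy))

omit [Finite G] in
theorem of_equiv {H : Type*} [Group H] (e : G ≃* H) : SC (e x) where
  ord := by rw [MulEquiv.orderOf_eq, h.ord]
  cent y hy := by
    obtain ⟨g, rfl⟩ := e.surjective y
    obtain ⟨k, hk⟩ := mem_zpowers_iff.1 (h.cent g (e.injective (by simpa using hy)))
    exact mem_zpowers_iff.2 ⟨k, by rw [← hk, map_zpow]⟩

omit [Finite G] in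
theorem conj (g : G) : SC (g * x * g⁻¹) := h.of_equiv (MulAut.conj g)

omit [Finite G] in
theorem subgroup (H : Subgroup G) (hx : x ∈ H) : SC (⟨x, hx⟩ : H) where
  ord := by rw [← h.ord, ← orderOf_coe]
  cent y hy := by
    obtain ⟨k, hk⟩ := mem_zpowers_iff.1 (h.cent y (congrArg Subtype.val hy))
    exact mem_zpowers_iff.2 ⟨k, Subtype.ext (by simpa using hk)⟩

omit [Finite G] in
theorem normalizer_cases {g : G} (hg : g ∈ normalizer ((zpowers x : Subgroup G) : Set G)) :
    g * x * g⁻¹ = x ∨ g * x * g⁻¹ = x⁻¹ := by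
  rcases h.cases_mem ((mem_normalizer_iff.1 hg x).1 (mem_zpowers x)) with e | e | e
  · exact absurd (by simpa using e) h.ne_one
  · exact Or.inl e
  · exact Or.inr e

/-! ### Subgroups of order prime to three normalised by `x` -/

variable {K : Subgroup G} (hK : ¬ 3 ∣ Nat.card K) (hN : x ∈ normalizer (K : Set G))
include hK

omit [Finite G] in
theorem eq_one_of_commute {k : G} (hk : k ∈ K) (hc : k * x = x * k) : k = 1 := by
  have hne : x ∉ K := fun hx => hK (h.ord ▸ orderOf_dvd_natCard K hx)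
  rcases h.cases_mem (h.cent k hc) with e | e | e
  · exact e
  · exact absurd (e ▸ hk) hne
  · exact absurd (inv_inv x ▸ inv_mem (e ▸ hk : x⁻¹ ∈ K)) hne

include hN

omit [Finite G] in
theorem conj_mem {k : G} (hk : k ∈ K) : x * k * x⁻¹ ∈ K := (mem_normalizer_iff.1 hN k).1 hk

/-- Every element of the coset `K x` is conjugate to `x` by an element of `K`. -/
theorem exists_conj {k : G} (hk : k ∈ K) : ∃ a ∈ K, k * x = a⁻¹ * x * a := by
  let f : K → K := fun a => ⟨(a : G)⁻¹ * (x * a * x⁻¹), mul_mem (inv_mem a.2) (h.conj_mem hK hN a.2)⟩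
  have hf : Function.Injective f := by
    intro a b e
    have e' : (a : G)⁻¹ * (x * a * x⁻¹) = (b : G)⁻¹ * (x * b * x⁻¹) := congrArg Subtype.val e
    have hc : ((b : G) * (a : G)⁻¹) * x = x * ((b : G) * (a : G)⁻¹) := by
      calc ((b : G) * (a : G)⁻¹) * x
          = (b : G) * ((a : G)⁻¹ * (x * a * x⁻¹)) * x * (a : G)⁻¹ := by group
        _ = x * ((b : G) * (a : G)⁻¹) := by rw [e']; group
    have := h.eq_one_of_commute hK (mul_mem b.2 (inv_mem a.2)) hc
    exact Subtype.ext (mul_inv_eq_one.1 this).symm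
  obtain ⟨a, ha⟩ := Finite.surjective_of_injective hf ⟨k, hk⟩
  have ha' : (a : G)⁻¹ * (x * a * x⁻¹) = k := congrArg Subtype.val ha
  exact ⟨a, a.2, by rw [← ha']; group⟩

theorem coset_pow_three {k : G} (hk : k ∈ K) : (k * x) ^ 3 = 1 := by
  obtain ⟨a, -, e⟩ := h.exists_conj hK hN hk
  have := conj_pow (a := a⁻¹) (b := x) (i := 3)
  rw [inv_inv, h.pow_three, mul_one, inv_mul_cancel] at this
  rw [e, this]

/-- The fixed-point-free relation. -/
theorem norm_eq_one {k : G} (hk : k ∈ K) :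
    k * (x * k * x⁻¹) * (x * (x * k * x⁻¹) * x⁻¹) = 1 := by
  have e := h.coset_pow_three hK hN hk
  calc k * (x * k * x⁻¹) * (x * (x * k * x⁻¹) * x⁻¹) = (k * x) ^ 3 * (x ^ 3)⁻¹ := by
        simp only [pow_succ, pow_zero, one_mul]; group
    _ = 1 := by rw [e, h.pow_three, inv_one, one_mul]

theorem card_modEq : Nat.card K ≡ 1 [MOD 3] := by
  have : Fact (Nat.Prime 3) := ⟨Nat.prime_three⟩
  exact SelfCentralSimple.card_modEq_one h.ord h.cent K hK fun v hv => h.conj_mem hK hN hv

omit hN in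
theorem quotient [K.Normal] : SC (x : G ⧸ K) where
  ord := by
    have : Fact (Nat.Prime 3) := ⟨Nat.prime_three⟩
    refine orderOf_eq_prime ?_ fun e => ?_
    · rw [← QuotientGroup.mk_pow, h.pow_three, QuotientGroup.mk_one]
    · exact hK (h.ord ▸ orderOf_dvd_natCard K ((QuotientGroup.eq_one_iff x).1 e))
  cent := by
    intro y hy
    obtain ⟨g, rfl⟩ := QuotientGroup.mk_surjective y
    have hmem : g * x * g⁻¹ * x⁻¹ ∈ K := by
      rw [← QuotientGroup.eq_one_iff]
      simp only [QuotientGroup.mk_mul, QuotientGroup.mk_inv]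
      rw [show (g : G ⧸ K) * x = x * g from hy]
      group
    obtain ⟨a, ha, e⟩ := h.exists_conj (K := K) hK (normalizer_eq_top (H := K) ▸ mem_top x) hmem
    have hag : a * g ∈ zpowers x := by
      refine h.cent _ ?_
      calc a * g * x = a * (g * x * g⁻¹ * x⁻¹ * x) * g := by group
        _ = x * (a * g) := by rw [e]; group
    obtain ⟨k, hk⟩ := mem_zpowers_iff.1 hag
    refine mem_zpowers_iff.2 ⟨k, ?_⟩
    rw [← QuotientGroup.mk_zpow, hk, QuotientGroup.mk_mul, (QuotientGroup.eq_one_iff a).2 ha, one_mul]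

end SC

end Cfsg.Agent.Lib.Spectrum.SelfThree
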