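import Cfsg.Agent.Lib.Spectrum.SelfThree.Basic
import Cfsg.Agent.Lib.Fgs9.TriangleConstants
import Cfsg.Agent.Lib.BC78.Galois

/-!
# The invariant abelian subgroups cover more than a ninth of the group

With `x` self-centralising of order three and conjugate to its inverse, column orthogonality leaves
three irreducible characters at `x`, and the structure constant of the class of `x` exceeds `|G| / 9`.
Each of the solutions lies in `⟨x⟩` times an abelian subgroup normalised by `x`.
-/

namespace Cfsg.Agent.Lib.Spectrum.SelfThree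

open Subgroup Cfsg.Agent.Lib.Characters.Basic Cfsg.Agent.Lib.Characters.Complete
open scoped ComplexConjugate

universe u

variable {G : Type u} [Group G] [Finite G] {x : G} (h : SC x)
include h

/-- The subgroups of order prime to three normalised by `x`. -/
def Inv (x : G) (M : Subgroup G) : Prop := ¬ 3 ∣ Nat.card M ∧ x ∈ normalizer (M : Set G)

theorem exists_int_value (hinv : IsConj x x⁻¹) (χ : Cfsg.IrrCharacter G) :
    ∃ m : ℤ, (m : ℂ) = (χ : G → ℂ) x := by
  have hc := isCharacter_irr χ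
  refine BC78.Galois.exists_int_of_fixed (isIntegral_apply hc x) fun σ => ?_
  obtain ⟨k, hk, hσ⟩ := BC78.Galois.exists_exponent_char (G := G) σ
  rw [hσ _ hc x]
  rcases h.cases_mem (pow_mem (mem_zpowers x) k) with e | e | e
  · exfalso
    have h3 : 3 ∣ k := h.ord ▸ orderOf_dvd_of_pow_eq_one e
    exact Nat.Prime.not_coprime_iff_dvd.2 ⟨3, Nat.prime_three, h3, h.three_dvd⟩ hk
  · rw [e]
  · rw [e]; exact (classFunction_apply_of_isConj (isClassFunction_irr χ) hinv).symm

/-- The weighted sum of cubes at `x` exceeds one. -/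
theorem one_lt_sum (hinv : IsConj x x⁻¹) [Fintype (Cfsg.IrrCharacter G)] :
    ∃ r : ℚ, 1 < r ∧ ∑ χ : Cfsg.IrrCharacter G,
      (χ : G → ℂ) x * (χ : G → ℂ) x * conj ((χ : G → ℂ) x) / (χ : G → ℂ) 1 = (r : ℂ) := by
  classical
  choose m hm using exists_int_value h hinv
  choose d hd0 hd using fun χ : Cfsg.IrrCharacter G => exists_degree_pos χ
  have hsq : ∑ χ, m χ * m χ = 3 := by
    have e := sum_irr_mul_conj (G := G) x x
    rw [if_pos (IsConj.refl x), h.card_centralizer] at e
    have : ((∑ χ, m χ * m χ : ℤ) : ℂ) = ((3 : ℤ) : ℂ) := by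
      push_cast
      rw [show ((3 : ℂ)) = ((3 : ℕ) : ℂ) by norm_num, ← e]
      exact Finset.sum_congr rfl fun χ _ => by rw [← hm, map_intCast]
    exact_mod_cast this
  have hdeg : ∑ χ, m χ * (d χ : ℤ) = 0 := by
    have e := sum_irr_mul_conj (G := G) x 1
    rw [if_neg (fun e => h.ne_one (isConj_one_left.1 e))] at e
    have : ((∑ χ, m χ * (d χ : ℤ) : ℤ) : ℂ) = ((0 : ℤ) : ℂ) := by
      push_cast
      rw [← e]
      exact Finset.sum_congr rfl fun χ _ => by rw [← hm, hd, Complex.conj_natCast]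
    exact_mod_cast this
  set o : Cfsg.IrrCharacter G := oneChar G
  have hmo : m o = 1 := by
    have : (m o : ℂ) = ((1 : ℤ) : ℂ) := by rw [hm, oneChar_apply]; simp
    exact_mod_cast this
  have hdo : d o = 1 := by
    have : (d o : ℂ) = ((1 : ℕ) : ℂ) := by rw [← hd, oneChar_apply]; simp
    exact_mod_cast this
  set T := (Finset.univ.erase o).filter fun χ => m χ ≠ 0 with hT
  have hsum : ∀ f : Cfsg.IrrCharacter G → ℤ, (∀ χ, m χ = 0 → f χ = 0) →
      ∑ χ, f χ = f o + ∑ χ ∈ T, f χ := by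
    intro f hf
    rw [← Finset.add_sum_erase _ _ (Finset.mem_univ o), hT, Finset.sum_filter_of_ne]
    exact fun χ _ hχ e => hχ (hf χ e)
  rw [hsum _ (fun χ e => by rw [e, mul_zero]), hmo] at hsq
  rw [hsum _ (fun χ e => by rw [e, zero_mul]), hmo, hdo] at hdeg
  have hone : ∀ χ ∈ T, m χ * m χ = 1 := by
    intro χ hχ
    have h0 : m χ ≠ 0 := (Finset.mem_filter.1 hχ).2
    have h1 : m χ * m χ ≤ ∑ ψ ∈ T, m ψ * m ψ :=
      Finset.single_le_sum (f := fun ψ => m ψ * m ψ) (fun ψ _ => mul_self_nonneg _) hχ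
    have h2 : m χ * m χ ≤ 2 := by linarith
    have h3 : -1 ≤ m χ := by nlinarith
    have h4 : m χ ≤ 1 := by nlinarith
    interval_cases m χ <;> simp_all
  rw [Finset.sum_congr rfl hone, Finset.sum_const, nsmul_eq_mul, mul_one] at hsq
  have hcard : T.card = 2 := by omega
  obtain ⟨a, b, hab, hTab⟩ := Finset.card_eq_two.1 hcard
  rw [hTab, Finset.sum_pair hab] at hdeg
  have ha1 := hone a (by rw [hTab]; simp)
  have hb1 := hone b (by rw [hTab]; simp)
  refine ⟨1 + (m a : ℚ) / d a + (m b : ℚ) / d b, ?_, ?_⟩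
  · have hA : ((m a : ℚ) * d a) + (m b * d b) = -1 := by
      have : ((1 * 1 + (m a * d a + m b * d b) : ℤ) : ℚ) = 0 := by exact_mod_cast hdeg
      push_cast at this
      linarith
    have hmA : (m a : ℚ) * m a = 1 := by exact_mod_cast ha1
    have hmB : (m b : ℚ) * m b = 1 := by exact_mod_cast hb1
    set D : ℤ := m a * d a with hD
    have hDne : D ≠ 0 ∧ D ≠ -1 := by
      have h1 : m a ≠ 0 := fun e => by simp [e] at ha1
      have h2 : m b ≠ 0 := fun e => by simp [e] at hb1
      refine ⟨mul_ne_zero h1 (Nat.cast_ne_zero.2 (hd0 a).ne'), fun e => ?_⟩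
      push_cast at hdeg
      have : m b * (d b : ℤ) = 0 := by linarith
      exact mul_ne_zero h2 (Nat.cast_ne_zero.2 (hd0 b).ne') this
    have hpos : (0 : ℚ) < (D : ℚ) * (D + 1) := by
      have : 0 < D * (D + 1) := by
        rcases lt_or_gt_of_ne hDne.1 with hl | hl
        · exact mul_pos_of_neg_of_neg hl (by omega)
        · exact mul_pos hl (by omega)
      exact_mod_cast this
    have hda : (d a : ℚ) ≠ 0 := Nat.cast_ne_zero.2 (hd0 a).ne'
    have hdb : (d b : ℚ) ≠ 0 := Nat.cast_ne_zero.2 (hd0 b).ne'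
    have hDq : (D : ℚ) = m a * d a := by rw [hD]; push_cast; ring
    have key : (m a : ℚ) / d a + (m b : ℚ) / d b = 1 / ((D : ℚ) * (D + 1)) := by
      have hma : (m a : ℚ) ≠ 0 := left_ne_zero_of_mul (hmA ▸ one_ne_zero)
      have hmb : (m b : ℚ) ≠ 0 := left_ne_zero_of_mul (hmB ▸ one_ne_zero)
      have e1 : (m a : ℚ) / d a = 1 / (D : ℚ) := by
        rw [hDq, div_eq_div_iff hda (mul_ne_zero hma hda)]; linear_combination (d a : ℚ) * hmA
      have e2 : (m b : ℚ) / d b = 1 / (-1 - (D : ℚ)) := by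
        rw [show -1 - (D : ℚ) = (m b : ℚ) * d b by rw [hDq]; linarith,
          div_eq_div_iff hdb (mul_ne_zero hmb hdb)]
        linear_combination (d b : ℚ) * hmB
      have h1 : (D : ℚ) ≠ 0 := left_ne_zero_of_mul hpos.ne'
      have h2 : (D : ℚ) + 1 ≠ 0 := right_ne_zero_of_mul hpos.ne'
      rw [e1, e2, show -1 - (D : ℚ) = -((D : ℚ) + 1) by ring, div_neg, ← sub_eq_add_neg,
        div_sub_div _ _ h1 h2]
      ring
    have := one_div_pos.2 hpos
    linarith
  · rw [← Finset.add_sum_erase _ _ (Finset.mem_univ o), ← Finset.sum_filter_of_ne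
      (p := fun χ => m χ ≠ 0), ← hT, hTab, Finset.sum_pair hab]
    · simp only [← hm, hd, map_intCast, hmo, hdo]
      have e1 : ((m a : ℂ) * m a) = 1 := by exact_mod_cast ha1
      have e2 : ((m b : ℂ) * m b) = 1 := by exact_mod_cast hb1
      push_cast
      linear_combination ((m a : ℂ) / d a) * e1 + ((m b : ℂ) / d b) * e2
    · intro χ _ hχ e
      exact hχ (by rw [← hm, e]; simp)

/-- A solution of the class equation lies over an abelian subgroup normalised by `x`. -/
theorem exists_abelian_of_solution {y : G} (hy : y ^ 3 = 1) (hy1 : y ≠ 1) (hxy : (x * y) ^ 3 = 1)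
    (hxy1 : x * y ≠ 1) : ∃ A : Subgroup G, IsMulCommutative A ∧ Inv x A ∧ y * x⁻¹ ∈ A := by
  have hy' : y⁻¹ * y⁻¹ = y := by
    rw [← mul_inv_rev, inv_eq_iff_mul_eq_one, ← hy, pow_succ, pow_two]
  have hx' : x * x = x⁻¹ := by rw [← h.sq_eq, pow_two]
  have h6 : x * y * x * (y * x * y) = 1 := by
    rw [← hxy, pow_succ, pow_two]; group
  obtain ⟨u, hu⟩ : ∃ u, u = x * y⁻¹ := ⟨_, rfl⟩
  obtain ⟨v, hv⟩ : ∃ v, v = y⁻¹ * x := ⟨_, rfl⟩
  have huv1 : u * v = x * y * x := by
    rw [hu, hv]
    calc x * y⁻¹ * (y⁻¹ * x) = x * (y⁻¹ * y⁻¹) * x := by group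
      _ = x * y * x := by rw [hy']
  have hvu1 : v * u = (y * x * y)⁻¹ := by
    rw [hu, hv]
    calc y⁻¹ * x * (x * y⁻¹) = y⁻¹ * (x * x) * y⁻¹ := by group
      _ = (y * x * y)⁻¹ := by rw [hx']; group
  have huv : u * v = v * u := by rw [huv1, hvu1]; exact eq_inv_of_mul_eq_one_left h6
  let A : Subgroup G := Subgroup.closure {u, v}
  have huA : u ∈ A := Subgroup.subset_closure (Set.mem_insert _ _)
  have hvA : v ∈ A := Subgroup.subset_closure (Set.mem_insert_of_mem _ rfl)
  have hcomm : IsMulCommutative A := by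
    refine Subgroup.isMulCommutative_closure ?_
    rintro a (rfl | rfl) b (rfl | rfl)
    · rfl
    · exact huv
    · exact huv.symm
    · rfl
  have hc : ∀ a ∈ A, ∀ b ∈ A, a * b = b * a := fun a ha b hb =>
    congrArg Subtype.val (hcomm.is_comm.comm (⟨a, ha⟩ : A) ⟨b, hb⟩)
  have hN : x ∈ normalizer (A : Set G) := by
    have h1 : x⁻¹ * u * x = v := by rw [hu, hv]; group
    have h2 : x⁻¹ * v * x = (u * v)⁻¹ := by
      rw [huv1, hv]
      calc x⁻¹ * (y⁻¹ * x) * x = x⁻¹ * y⁻¹ * (x * x) := by group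
        _ = (x * y * x)⁻¹ := by rw [hx']; group
    have hle : A ≤ A.comap (MulAut.conj x⁻¹).toMonoidHom := by
      rw [Subgroup.closure_le]
      rintro w (rfl | rfl) <;>
        simp only [SetLike.mem_coe, Subgroup.mem_comap, MulEquiv.coe_toMonoidHom,
          MulAut.conj_apply, inv_inv]
      · rw [h1]; exact hvA
      · rw [h2]; exact inv_mem (mul_mem huA hvA)
    have : x⁻¹ ∈ normalizer (A : Set G) := by
      apply Subgroup.mem_normalizer_fintype
      intro n hn
      simpa using hle hn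
    simpa using inv_mem this
  refine ⟨A, hcomm, ⟨fun h3 => ?_, hN⟩, by
    have := inv_mem huA
    rwa [hu, mul_inv_rev, inv_inv] at this⟩
  have : Fact (Nat.Prime 3) := ⟨Nat.prime_three⟩
  obtain ⟨⟨a, ha⟩, hao⟩ := exists_prime_orderOf_dvd_card' 3 h3
  rw [← orderOf_coe] at hao
  have hscA : SC a := by
    have ha3 : a ^ 3 = 1 := hao ▸ pow_orderOf_eq_one a
    rcases h.conj_of_pow_three ha3 (fun e => by simp [e] at hao) with e | e
    · obtain ⟨g, rfl⟩ := isConj_iff.1 e; exact h.conj g
    · obtain ⟨g, rfl⟩ := isConj_iff.1 e; exact h.inv.conj g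
  have hAle : A ≤ zpowers a := fun b hb => hscA.cent b (hc b hb a ha)
  have hAeq : A = zpowers a := le_antisymm hAle (zpowers_le.2 ha)
  have hcx : a * x = x * a := by
    have hx3 : x ∈ normalizer ((zpowers a : Subgroup G) : Set G) := hAeq ▸ hN
    rcases hscA.normalizer_cases hx3 with e | e
    · exact (mul_inv_eq_iff_eq_mul.1 e).symm
    · exfalso
      have hinv' : x * a⁻¹ * x⁻¹ = a := by
        rw [show x * a⁻¹ * x⁻¹ = (x * a * x⁻¹)⁻¹ by group, e, inv_inv]
      have e2 : x * (x * (x * a * x⁻¹) * x⁻¹) * x⁻¹ = a⁻¹ := by rw [e, hinv', e]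
      have e3 : x * (x * (x * a * x⁻¹) * x⁻¹) * x⁻¹ = x ^ 3 * a * (x ^ 3)⁻¹ := by
        simp only [pow_succ, pow_zero, one_mul]; group
      rw [e3, h.pow_three, inv_one, one_mul, mul_one] at e2
      have : a ^ 2 = 1 := by rw [pow_two]; exact mul_eq_one_iff_eq_inv.2 e2
      have := orderOf_dvd_of_pow_eq_one this
      rw [hao] at this
      norm_num at this
  have hax := h.cent a hcx
  have hAx : A ≤ zpowers x := hAeq ▸ zpowers_le.2 hax
  have hyX : y ∈ zpowers x := by
    have hu' : x * y⁻¹ ∈ zpowers x := hu ▸ hAx huA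
    simpa using inv_mem (mul_mem (inv_mem (mem_zpowers x)) hu')
  have hyx : y = x := by
    rcases h.cases_mem hyX with e | e | e
    · exact absurd e hy1
    · exact e
    · exact absurd (by rw [e]; exact mul_inv_cancel x) hxy1
  have hu1 : u = 1 := by rw [hu, hyx, mul_inv_cancel]
  have hv1 : v = 1 := by rw [hv, hyx, inv_mul_cancel]
  have hbot : A ≤ ⊥ := by
    rw [Subgroup.closure_le]
    rintro w (rfl | rfl) <;> simp [hu1, hv1]
  exact Nat.prime_three.not_dvd_one (Subgroup.card_eq_one.2 (le_bot_iff.1 hbot) ▸ h3)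

/-- The elements lying in invariant subgroups are more than a ninth of all elements. -/
theorem card_lt_nine_mul (hinv : IsConj x x⁻¹) :
    Nat.card G < 9 * Nat.card {a : G // ∃ A : Subgroup G, Inv x A ∧ a ∈ A} := by
  classical
  have := Fintype.ofFinite G
  have := Fintype.ofFinite (Cfsg.IrrCharacter G)
  obtain ⟨r, hr, hsum⟩ := one_lt_sum h hinv
  have hc := Fgs9.TriangleConstants.card_mul_sum (G := G) x x x
  rw [hsum, h.card_centralizer] at hc
  set S := {a : G // IsConj (x * (a * x * a⁻¹)) x}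
  have hlt : Nat.card G < 3 * Nat.card S := by
    have : ((Nat.card G : ℚ) * r : ℚ) = ((Nat.card S * 3 : ℕ) : ℚ) := by
      exact_mod_cast hc
    have hG : (0 : ℚ) < Nat.card G := by exact_mod_cast Nat.card_pos
    have : (Nat.card G : ℚ) < ((Nat.card S * 3 : ℕ) : ℚ) := this ▸ lt_mul_of_one_lt_right hG hr
    have : Nat.card G < Nat.card S * 3 := by exact_mod_cast this
    omega
  have key : ∀ a : S, (x * (a.1 * x * a.1⁻¹)) ^ 3 = 1 ∧ x * (a.1 * x * a.1⁻¹) ≠ 1 := by
    intro a
    obtain ⟨g, hg⟩ := isConj_iff.1 (IsConj.symm a.2)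
    rw [← hg]
    exact ⟨(h.conj g).pow_three, (h.conj g).ne_one⟩
  let U := {a : G // ∃ A : Subgroup G, Inv x A ∧ a ∈ A}
  let F : S → U := fun a => ⟨a.1 * x * a.1⁻¹ * x⁻¹, by
    obtain ⟨A, -, hA, hm⟩ := exists_abelian_of_solution h (h.conj a.1).pow_three (h.conj a.1).ne_one
      (key a).1 (key a).2
    exact ⟨A, hA, hm⟩⟩
  have hfib : ∀ c : U, (Finset.univ.filter fun a : S => F a = c).card ≤ 3 := by
    intro c
    by_cases hne : ∃ a, F a = c
    · obtain ⟨a₀, ha₀⟩ := hne
      calc (Finset.univ.filter fun a : S => F a = c).card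
          ≤ (Finset.univ : Finset (zpowers x)).card := by
            refine Finset.card_le_card_of_injOn (fun a => if ha : a₀.1⁻¹ * a.1 ∈ zpowers x then
              (⟨_, ha⟩ : zpowers x) else 1) (fun a _ => Finset.mem_univ _) ?_
            intro a ha b hb e
            have hmem : ∀ a' ∈ (Finset.univ.filter fun a : S => F a = c), a₀.1⁻¹ * a'.1 ∈ zpowers x := by
              intro a' ha'
              have e' : a'.1 * x * a'.1⁻¹ * x⁻¹ = a₀.1 * x * a₀.1⁻¹ * x⁻¹ :=
                congrArg Subtype.val ((Finset.mem_filter.1 ha').2.trans ha₀.symm)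
              have e'' := mul_right_cancel e'
              refine h.cent _ ?_
              calc a₀.1⁻¹ * a'.1 * x = a₀.1⁻¹ * (a'.1 * x * a'.1⁻¹) * a'.1 := by group
                _ = x * (a₀.1⁻¹ * a'.1) := by rw [e'']; group
            simp only [Finset.mem_coe] at ha hb
            simp only [dif_pos (hmem a ha), dif_pos (hmem b hb), Subtype.mk.injEq, mul_right_inj] at e
            exact Subtype.ext e
        _ = 3 := by rw [Finset.card_univ, ← Nat.card_eq_fintype_card, h.card_zpowers]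
    · have : (Finset.univ.filter fun a : S => F a = c) = ∅ := by
        rw [Finset.filter_eq_empty_iff]
        exact fun a _ e => hne ⟨a, e⟩
      rw [this]; simp
  have : Nat.card S ≤ 3 * Nat.card U := by
    rw [Nat.card_eq_fintype_card, Nat.card_eq_fintype_card, ← Finset.card_univ, ← Finset.card_univ]
    exact Finset.card_le_mul_card_image_of_maps_to (f := F) (fun a _ => Finset.mem_univ _) 3
      fun c _ => hfib c
  show Nat.card G < 9 * Nat.card U
  omega

end Cfsg.Agent.Lib.Spectrum.SelfThree
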