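import Cfsg.Agent.Lib.Spectrum.SelfThree.Triple
import Cfsg.Agent.Lib.CharP.MinimalOver
import Cfsg.Agent.S0495

/-!
# The normal subgroup under a simple quotient of order 60 or 168

With `u` of order three and `t` an involution with `u t` of order three, the fixed-point-free
relations on an abelian normal subgroup give `2 (t - 1) = 0`, so the subgroup has exponent two; an
element of order seven inverted by no element gives `7 (g - 1) = 0`, so there is none above `PSL(2,7)`.
-/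

namespace Cfsg.Agent.Lib.Spectrum.SelfThree

open Subgroup
open scoped IsMulCommutative

universe u

variable {G : Type u} [Group G] [Finite G] {x : G}

/-- An element with image of order three lifts to a self-centralising one. -/
theorem exists_sc_lift (hx : SC x) {K : Subgroup G} [K.Normal] (hK : ¬ 3 ∣ Nat.card K) {g : G}
    (h3 : (g : G ⧸ K) ^ 3 = 1) (h1 : (g : G ⧸ K) ≠ 1) :
    ∃ y : G, SC y ∧ (y : G ⧸ K) = (g : G ⧸ K) := by
  rcases (hx.quotient hK).conj_of_pow_three h3 h1 with e | e <;> obtain ⟨c, hc⟩ := isConj_iff.1 e <;>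
    obtain ⟨c, rfl⟩ := QuotientGroup.mk_surjective c
  · exact ⟨c * x * c⁻¹, hx.conj c, by rw [← hc]; rfl⟩
  · exact ⟨c * x⁻¹ * c⁻¹, hx.inv.conj c, by rw [← hc]; rfl⟩

theorem relation_of_image (hx : SC x) {K : Subgroup G} [K.Normal] (hK : ¬ 3 ∣ Nat.card K)
    (hab : ∀ a ∈ K, ∀ b ∈ K, a * b = b * a) {g : G} (h3 : (g : G ⧸ K) ^ 3 = 1)
    (h1 : (g : G ⧸ K) ≠ 1) {k : G} (hk : k ∈ K) :
    k * (g * k * g⁻¹) * (g * (g * k * g⁻¹) * g⁻¹) = 1 := by
  obtain ⟨y, hy, e⟩ := exists_sc_lift hx hK h3 h1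
  have hmem : g * y⁻¹ ∈ K := by
    rw [← QuotientGroup.eq_one_iff, QuotientGroup.mk_mul, QuotientGroup.mk_inv, e, mul_inv_cancel]
  have hact : ∀ v ∈ K, g * v * g⁻¹ = y * v * y⁻¹ := by
    intro v hv
    have hn : y * v * y⁻¹ ∈ K := Subgroup.Normal.conj_mem inferInstance v hv y
    calc g * v * g⁻¹ = g * y⁻¹ * (y * v * y⁻¹) * (g * y⁻¹)⁻¹ := by group
      _ = y * v * y⁻¹ := by rw [hab _ hmem _ hn, mul_inv_cancel_right]
  rw [hact k hk, hact _ (Subgroup.Normal.conj_mem inferInstance k hk y)]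
  exact hy.norm_eq_one hK (by rw [normalizer_eq_top]; exact mem_top _) hk

/-- Conjugation as an endomorphism of an abelian normal subgroup. -/
noncomputable def conjEnd (K : Subgroup G) [K.Normal] : G →* AddMonoid.End (Additive K) where
  toFun g := (MulAut.conjNormal (H := K) g).toMonoidHom.toAdditive
  map_one' := by
    ext k
    show (1 : G) * _ * 1⁻¹ = _
    rw [one_mul, inv_one, mul_one]
    rfl
  map_mul' g h := by
    ext k
    show g * h * _ * (g * h)⁻¹ = g * (h * _ * h⁻¹) * g⁻¹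
    group

theorem conjEnd_apply (K : Subgroup G) [K.Normal] (g : G) (k : K) :
    ((Additive.toMul (conjEnd K g (Additive.ofMul k)) : K) : G) = g * k * g⁻¹ := rfl

/-- An element outside `K` cannot centralise a nontrivial normal subgroup centralised by `K`. -/
theorem eq_bot_of_centralizes (hx : SC x) {K : Subgroup G} [K.Normal] (hK : ¬ 3 ∣ Nat.card K)
    [IsSimpleGroup (G ⧸ K)] {W : Subgroup G} [W.Normal] (hW : W ≤ K)
    (hcK : ∀ k ∈ K, ∀ w ∈ W, w * k = k * w) {g : G} (hg : g ∉ K)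
    (hc : ∀ w ∈ W, g * w = w * g) : W = ⊥ := by
  let C := Subgroup.centralizer (W : Set G)
  have hKC : K ≤ C := fun k hk => mem_centralizer_iff.2 fun w hw => hcK k hk w hw
  have hgC : g ∈ C := mem_centralizer_iff.2 fun w hw => (hc w hw).symm
  have hCn : C.Normal := Subgroup.normal_centralizer
  have hne : C.map (QuotientGroup.mk' K) ≠ ⊥ := by
    rw [Ne, Subgroup.map_eq_bot_iff, QuotientGroup.ker_mk']
    exact fun h => hg (h hgC)
  have htop := (Subgroup.Normal.map hCn _ (QuotientGroup.mk'_surjective K)).eq_bot_or_eq_top.resolve_left hne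
  have hxC : x ∈ C := by
    have := congrArg (Subgroup.comap (QuotientGroup.mk' K)) htop
    rw [comap_map_eq, QuotientGroup.ker_mk', comap_top, sup_eq_left.2 hKC] at this
    rw [this]; exact mem_top x
  refine eq_bot_iff.2 fun w hw => ?_
  exact hx.eq_one_of_commute hK (hW hw) (mem_centralizer_iff.1 hxC w hw)

section Abelian

theorem mul_comm_mem {K : Subgroup G} [IsMulCommutative K] {a b : G} (ha : a ∈ K) (hb : b ∈ K) :
    a * b = b * a := congrArg Subtype.val (mul_comm' (⟨a, ha⟩ : K) ⟨b, hb⟩)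

variable (hx : SC x) {K : Subgroup G} [K.Normal] (hK : ¬ 3 ∣ Nat.card K) [IsMulCommutative K]
include hx hK

theorem end_relation {g : G} (h3 : (g : G ⧸ K) ^ 3 = 1) (h1 : (g : G ⧸ K) ≠ 1) :
    conjEnd K g * conjEnd K g + conjEnd K g + 1 = 0 := by
  ext k
  show g * (g * (Additive.toMul k : K) * g⁻¹) * g⁻¹ * (g * (Additive.toMul k : K) * g⁻¹) *
    ((Additive.toMul k : K) : G) = 1
  set v := ((Additive.toMul k : K) : G) with hv
  have hvK : v ∈ K := (Additive.toMul k).2
  have h := relation_of_image hx hK (fun _ ha _ hb => mul_comm_mem ha hb) h3 h1 hvK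
  have hc1 := Subgroup.Normal.conj_mem ‹K.Normal› v hvK g
  have hc2 := Subgroup.Normal.conj_mem ‹K.Normal› _ hc1 g
  calc g * (g * v * g⁻¹) * g⁻¹ * (g * v * g⁻¹) * v
      = v * (g * (g * v * g⁻¹) * g⁻¹ * (g * v * g⁻¹)) := mul_comm_mem (mul_mem hc2 hc1) hvK
    _ = v * (g * v * g⁻¹ * (g * (g * v * g⁻¹) * g⁻¹)) := by rw [mul_comm_mem hc2 hc1]
    _ = 1 := by rw [← mul_assoc]; exact h

omit hx hK in
theorem conjEnd_eq_one {k : G} (hk : k ∈ K) : conjEnd K k = 1 := by
  ext v
  show k * ((Additive.toMul v : K) : G) * k⁻¹ = _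
  rw [mul_comm_mem hk (Additive.toMul v).2, mul_inv_cancel_right]
  rfl

omit hx hK in
theorem conjEnd_congr {g h : G} (e : (g : G ⧸ K) = (h : G ⧸ K)) : conjEnd K g = conjEnd K h := by
  have hmem : g⁻¹ * h ∈ K := QuotientGroup.eq.1 e
  calc conjEnd K g = conjEnd K g * conjEnd K (g⁻¹ * h) := by rw [conjEnd_eq_one hmem, mul_one]
    _ = conjEnd K h := by rw [← map_mul, mul_inv_cancel_left]

/-- Exponent two, from elements generating `A₄`. -/
theorem sq_eq_one [IsSimpleGroup (G ⧸ K)] {a t : G} (ha3 : (a : G ⧸ K) ^ 3 = 1) (ha1 : (a : G ⧸ K) ≠ 1)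
    (ht2 : (t : G ⧸ K) ^ 2 = 1) (ht1 : (t : G ⧸ K) ≠ 1)
    (hat3 : ((a * t : G) : G ⧸ K) ^ 3 = 1) (hat1 : ((a * t : G) : G ⧸ K) ≠ 1) :
    ∀ k ∈ K, k ^ 2 = 1 := by
  set u := conjEnd K a
  set s := conjEnd K t
  have hu : u * u + u + 1 = 0 := end_relation hx hK ha3 ha1
  have hus : u * s * (u * s) + u * s + 1 = 0 := by
    rw [← map_mul]; exact end_relation hx hK hat3 hat1
  have hss : s * s = 1 := by
    rw [← map_mul]
    refine conjEnd_eq_one ?_
    rw [← QuotientGroup.eq_one_iff, QuotientGroup.mk_mul, ← pow_two]; exact ht2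
  have hflip : u * s * (u * s) = s * (u * u) := by
    simp only [u, s, ← map_mul]
    refine conjEnd_congr ?_
    simp only [QuotientGroup.mk_mul]
    set A := (a : G ⧸ K)
    set T := (t : G ⧸ K)
    have e1 : A * T * (A * T) = (A * T)⁻¹ := by
      rw [eq_inv_iff_mul_eq_one, ← pow_two, ← pow_succ]
      simpa [QuotientGroup.mk_mul] using hat3
    have e2 : T⁻¹ = T := inv_eq_of_mul_eq_one_right (by rw [← pow_two]; exact ht2)
    have e3 : A⁻¹ = A * A := inv_eq_of_mul_eq_one_right (by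
      rw [← mul_assoc, ← ha3, pow_succ, pow_two])
    rw [e1, mul_inv_rev, e2, e3]
  have hu2 : u * u = 0 - u - 1 := by
    calc u * u = (u * u + u + 1) - u - 1 := by abel
      _ = 0 - u - 1 := by rw [hu]
  have hN : u * (s - 1) = (s - 1) * (u + 1) := by
    rw [hflip, hu2] at hus
    have : u * (s - 1) - (s - 1) * (u + 1) = s * (0 - u - 1) + u * s + 1 := by
      simp only [mul_sub, sub_mul, mul_add, mul_one, one_mul, mul_zero]; abel
    rw [← sub_eq_zero, this, hus]
  have h2 : (2 : AddMonoid.End (Additive K)) * (s - 1) = 0 := by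
    set N := s - 1
    have e1 : u * u * N = N * ((u + 1) * (u + 1)) := by
      rw [mul_assoc, hN, ← mul_assoc, hN, mul_assoc]
    have e2 : (u * u + u + 1) * N = 0 := by rw [hu, zero_mul]
    have e3 : N * (2 * (u + 1)) = 0 := by
      have h1' : (u * u + u + 1) * N = N * ((u * u + u + 1) + 2 * (u + 1)) := by
        rw [add_mul, add_mul, e1, hN, one_mul]; noncomm_ring
      rw [e2, hu, zero_add] at h1'
      exact h1'.symm
    have hinv : (u + 1) * (0 - u) = 1 := by
      calc (u + 1) * (0 - u) = 0 - (u * u + u + 1) + 1 := by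
            simp only [mul_sub, mul_zero, add_mul, one_mul]; abel
        _ = 1 := by rw [hu, sub_zero, zero_add]
    calc 2 * N = N * (2 * (u + 1)) * (0 - u) := by
          rw [mul_assoc N, mul_assoc (2 : AddMonoid.End (Additive K)), hinv, mul_one, two_mul, mul_two]
      _ = 0 := by rw [e3, zero_mul]
  -- squares
  let W : Subgroup G :=
  { carrier := {w | ∃ k ∈ K, w = k ^ 2}
    one_mem' := ⟨1, one_mem K, by simp⟩
    mul_mem' := by
      rintro _ _ ⟨k, hk, rfl⟩ ⟨l, hl, rfl⟩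
      exact ⟨k * l, mul_mem hk hl, ((show Commute k l from mul_comm_mem hk hl).mul_pow 2).symm⟩
    inv_mem' := by
      rintro _ ⟨k, hk, rfl⟩
      exact ⟨k⁻¹, inv_mem hk, by rw [inv_pow]⟩ }
  have : W.Normal := ⟨fun w hw g => by
    obtain ⟨k, hk, rfl⟩ := hw
    exact ⟨g * k * g⁻¹, Subgroup.Normal.conj_mem ‹K.Normal› k hk g, by rw [conj_pow]⟩⟩
  have hWK : W ≤ K := by rintro _ ⟨k, hk, rfl⟩; exact pow_mem hk 2
  have htK : t ∉ K := fun h => ht1 ((QuotientGroup.eq_one_iff t).2 h)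
  have hbot := eq_bot_of_centralizes hx hK hWK (fun _ hk _ hw => mul_comm_mem (hWK hw) hk) htK (W := W) fun w hw => by
    obtain ⟨k, hk, rfl⟩ := hw
    have e := DFunLike.congr_fun h2 (Additive.ofMul (⟨k, hk⟩ : K))
    rw [two_mul] at e
    have e' : (t * k * t⁻¹ * k⁻¹) * (t * k * t⁻¹ * k⁻¹) = 1 := by
      have e0 := congrArg (fun v : Additive K => ((Additive.toMul v : K) : G)) e
      exact (by
        show _ = (1 : G)
        rw [← div_eq_mul_inv]
        exact e0)
    have hd : t * k * t⁻¹ * k⁻¹ ∈ K := mul_mem (Subgroup.Normal.conj_mem ‹K.Normal› k hk t) (inv_mem hk)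
    have hmul : t * k ^ 2 * t⁻¹ = (t * k * t⁻¹ * k⁻¹) ^ 2 * k ^ 2 := by
      rw [← conj_pow, ← (show Commute (t * k * t⁻¹ * k⁻¹) k from mul_comm_mem hd hk).mul_pow,
        inv_mul_cancel_right]
    rw [pow_two (t * k * t⁻¹ * k⁻¹), e', one_mul] at hmul
    exact mul_inv_eq_iff_eq_mul.1 hmul
  intro k hk
  exact mem_bot.1 (hbot ▸ (⟨k, hk, rfl⟩ : k ^ 2 ∈ W))

/-- Nothing lies under an element of order seven acted on by squaring. -/
theorem eq_bot_of_seven [IsSimpleGroup (G ⧸ K)] (hexp : ∀ k ∈ K, k ^ 2 = 1) {a g : G} (ha3 : (a : G ⧸ K) ^ 3 = 1)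
    (ha1 : (a : G ⧸ K) ≠ 1) (hg7 : (g : G ⧸ K) ^ 7 = 1) (hg1 : (g : G ⧸ K) ≠ 1)
    (hag : (a : G ⧸ K) * g * (a : G ⧸ K)⁻¹ = (g : G ⧸ K) ^ 2) : K = ⊥ := by
  set A := (a : G ⧸ K)
  set C := (g : G ⧸ K)
  set u := conjEnd K a
  set c := conjEnd K g
  have hA : A * C = C ^ 2 * A := by rw [← hag, inv_mul_cancel_right]
  have hAj : ∀ j : ℕ, A * C ^ j = C ^ (2 * j) * A := by
    intro j
    induction j with
    | zero => simp
    | succ j ih =>
      rw [pow_succ, ← mul_assoc, ih, mul_assoc, hA, ← mul_assoc, ← pow_add]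
      congr 2
  have ho : orderOf C = 7 := by
    have : Fact (Nat.Prime 7) := ⟨by norm_num⟩
    exact orderOf_eq_prime hg7 hg1
  have hA3 : A * A * A = 1 := by rw [← ha3, pow_succ, pow_two]
  have hne : ∀ j : ℕ, ((g ^ j * a : G) : G ⧸ K) ^ 3 = 1 ∧ ((g ^ j * a : G) : G ⧸ K) ≠ 1 := by
    intro j
    rw [QuotientGroup.mk_mul, QuotientGroup.mk_pow]
    refine ⟨?_, fun e => ?_⟩
    · show (C ^ j * A) ^ 3 = 1
      rw [pow_succ, pow_two]
      calc C ^ j * A * (C ^ j * A) * (C ^ j * A)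
          = C ^ j * (A * C ^ j) * (A * C ^ j) * A := by group
        _ = C ^ j * C ^ (2 * j) * A * C ^ (2 * j) * A * A := by rw [hAj]; group
        _ = C ^ j * C ^ (2 * j) * (A * C ^ (2 * j)) * A * A := by group
        _ = (C ^ j * C ^ (2 * j) * C ^ (2 * (2 * j))) * (A * A * A) := by rw [hAj]; group
        _ = 1 := by
          rw [hA3, mul_one, ← pow_add, ← pow_add, show j + 2 * j + 2 * (2 * j) = 7 * j by ring,
            pow_mul, hg7, one_pow]
    · have hmem : A ∈ zpowers C := by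
        rw [eq_inv_of_mul_eq_one_right (show C ^ j * A = 1 from e)]
        exact inv_mem (pow_mem (mem_zpowers C) j)
      have h7 : orderOf A ∣ 7 := ho ▸ orderOf_dvd_of_mem_zpowers hmem
      exact ha1 (orderOf_eq_one_iff.1 (Nat.eq_one_of_dvd_coprimes (by norm_num : Nat.Coprime 7 3) h7
        (orderOf_dvd_of_pow_eq_one ha3)))
  have hu : u * u + u + 1 = 0 := end_relation hx hK ha3 ha1
  have hj : ∀ j : ℕ, c ^ (3 * j) * (u * u) + c ^ j * u + 1 = 0 := by
    intro j
    have h := end_relation hx hK (hne j).1 (hne j).2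
    have e : conjEnd K (g ^ j * a) * conjEnd K (g ^ j * a) = c ^ (3 * j) * (u * u) := by
      simp only [c, u, ← map_mul, ← map_pow]
      refine conjEnd_congr ?_
      simp only [QuotientGroup.mk_mul, QuotientGroup.mk_pow]
      show C ^ j * A * (C ^ j * A) = C ^ (3 * j) * (A * A)
      rw [mul_assoc, ← mul_assoc A, hAj, show 3 * j = j + 2 * j by ring, pow_add]
      group
    rw [e, map_mul, map_pow] at h
    exact h
  set S := ∑ j ∈ Finset.range 7, c ^ j with hS
  have hc7 : c ^ 7 = 1 := by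
    rw [← map_pow]
    refine conjEnd_eq_one ?_
    rw [← QuotientGroup.eq_one_iff, QuotientGroup.mk_pow]; exact hg7
  have hS3 : ∑ j ∈ Finset.range 7, c ^ (3 * j) = S := by
    have hmod : ∀ j : ℕ, c ^ j = c ^ (j % 7) := fun j => by
      conv_lhs => rw [← Nat.mod_add_div j 7, pow_add, pow_mul, hc7, one_pow, mul_one]
    rw [hS]
    simp only [Finset.sum_range_succ, Finset.sum_range_zero]
    rw [hmod (3 * 3), hmod (3 * 4), hmod (3 * 5), hmod (3 * 6)]
    norm_num
    abel
  have hsum : S * (u * u) + S * u + (7 : ℕ) • (1 : AddMonoid.End (Additive K)) = 0 := by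
    have := Finset.sum_congr (s₁ := Finset.range 7) rfl (fun j _ => hj j)
    rw [Finset.sum_add_distrib, Finset.sum_add_distrib, ← Finset.sum_mul, ← Finset.sum_mul,
      Finset.sum_const, Finset.card_range, Finset.sum_const_zero, hS3] at this
    exact this
  have hS7 : S = (7 : ℕ) • (1 : AddMonoid.End (Additive K)) := by
    have e : S * (u * u) + S * u = -S := by
      rw [eq_neg_iff_add_eq_zero]
      calc S * (u * u) + S * u + S = S * (u * u + u + 1) := by noncomm_ring
        _ = 0 := by rw [hu, mul_zero]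
    rw [e] at hsum
    exact (neg_add_eq_zero.1 hsum)
  have h0 : (7 : ℕ) • (c - 1) = 0 := by
    have := geom_sum_mul c 7
    rw [← hS, hS7, hc7, sub_self, smul_mul_assoc, one_mul] at this
    exact this
  have hgK : g ∉ K := fun h => hg1 ((QuotientGroup.eq_one_iff g).2 h)
  refine eq_bot_of_centralizes hx hK le_rfl (fun _ hk _ hw => mul_comm_mem hw hk) hgK (W := K) fun k hk => ?_
  have e := DFunLike.congr_fun h0 (Additive.ofMul (⟨k, hk⟩ : K))
  have e' : (g * k * g⁻¹ * k⁻¹) ^ 7 = 1 := by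
    have e0 := congrArg (fun v : Additive K => ((Additive.toMul v : K) : G)) e
    rw [← div_eq_mul_inv]
    show ((Additive.toMul ((c - 1) (Additive.ofMul (⟨k, hk⟩ : K))) : K) : G) ^ 7 = 1
    simpa using e0
  have hd : g * k * g⁻¹ * k⁻¹ ∈ K := mul_mem (Subgroup.Normal.conj_mem ‹K.Normal› k hk g) (inv_mem hk)
  have h2 := hexp _ hd
  have : g * k * g⁻¹ * k⁻¹ = 1 := by
    calc g * k * g⁻¹ * k⁻¹ = (g * k * g⁻¹ * k⁻¹) ^ 7 * (((g * k * g⁻¹ * k⁻¹) ^ 2) ^ 3)⁻¹ := by group
      _ = 1 := by rw [e', h2, one_pow, inv_one, mul_one]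
  exact mul_inv_eq_iff_eq_mul.1 (mul_inv_eq_one.1 this)

end Abelian

end Cfsg.Agent.Lib.Spectrum.SelfThree
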