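import Cfsg.Agent.Lib.Spectrum.SelfThree.Triple
import Mathlib.GroupTheory.GroupAction.Quotient

/-!
# A simple group with a self-centralising element of order three has order 60 or 168

The invariant subgroups cover more than a ninth of the group, while the orders of the representatives
of the classes of maximal ones divide the index of the normaliser of the largest one: so that index is
at most eleven.
-/

namespace Cfsg.Agent.Lib.Spectrum.SelfThree

open Subgroup
open scoped Pointwise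

universe u

variable {G : Type u} [Group G] [Finite G] {x : G}

/-- Conjugate subgroups. -/
def IsConjSub (M M' : Subgroup G) : Prop := ∃ g : G, M.map (MulAut.conj g).toMonoidHom = M'

theorem IsConjSub.symm {M M' : Subgroup G} (h : IsConjSub M M') : IsConjSub M' M := by
  obtain ⟨g, rfl⟩ := h
  exact ⟨g⁻¹, map_conj_inv M g⟩

theorem IsConjSub.trans {M M' M'' : Subgroup G} (h : IsConjSub M M') (h' : IsConjSub M' M'') :
    IsConjSub M M'' := by
  obtain ⟨g, rfl⟩ := h
  obtain ⟨g', rfl⟩ := h'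
  refine ⟨g' * g, ?_⟩
  rw [Subgroup.map_map]
  congr 1
  ext y
  simp [mul_assoc]

theorem IsConjSub.refl [Fact (Nat.Prime 2)] (M : Subgroup G) : IsConjSub M M := ⟨1, map_conj_one M⟩

theorem IsConjSub.card_eq {M M' : Subgroup G} (h : IsConjSub M M') : Nat.card M = Nat.card M' := by
  obtain ⟨g, rfl⟩ := h
  exact (card_map_of_injective (MulAut.conj g).injective).symm

variable (hG : Ctx G) (hx : SC x) {M : Subgroup G} (hM : MaxInv x M) (hne : M ≠ ⊥)
include hG hx hM hne

theorem four_le : 4 ≤ Nat.card M := by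
  have h1 : Nat.card M % 3 = 1 := hx.card_modEq hM.1.1 hM.1.2
  have h2 : 1 < Nat.card M := (Subgroup.one_lt_card_iff_ne_bot M).2 hne
  omega

/-- The weight of a class. -/
theorem conj_class (t : G) (ht : t * x * t⁻¹ = x⁻¹) :
    (∀ M', MaxInv x M' → IsConjSub M M' → M' = M ∨ M' = M.map (MulAut.conj t).toMonoidHom) ∧
      MaxInv x (M.map (MulAut.conj t).toMonoidHom) ∧
      (Nat.card (normalizer (M : Set G)) = 6 * Nat.card M ↔
        M.map (MulAut.conj t).toMonoidHom = M) := by
  have hback : ∀ g : G, g * x * g⁻¹ = x⁻¹ → ∃ c ∈ zpowers x, g = t * c := by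
    intro g hg
    refine ⟨t⁻¹ * g, hx.cent _ ?_, (mul_inv_cancel_left t g).symm⟩
    calc t⁻¹ * g * x = t⁻¹ * (g * x * g⁻¹) * g := by group
      _ = t⁻¹ * (t * x * t⁻¹) * g := by rw [hg, ht]
      _ = x * (t⁻¹ * g) := by group
  have hfix : ∀ c ∈ zpowers x, M.map (MulAut.conj c).toMonoidHom = M := fun c hc =>
    mem_normalizer_iff_map_conj_eq.1 (zpowers_le.2 hM.1.2 hc)
  refine ⟨fun M' hM' hc => ?_, ?_, ?_, ?_⟩
  · obtain ⟨g, rfl⟩ := hc
    set L := normalizer ((M.map (MulAut.conj g).toMonoidHom : Subgroup G) : Set G)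
    have hxL : x ∈ L := hM'.1.2
    have hgL : g * x * g⁻¹ ∈ L := (hM.1.conj g).2
    have hL := hx.subgroup L hxL
    have h3 : (⟨g * x * g⁻¹, hgL⟩ : L) ^ 3 = 1 := Subtype.ext (by simp [hx.pow_three])
    have h1 : (⟨g * x * g⁻¹, hgL⟩ : L) ≠ 1 := fun e =>
      (hx.conj g).ne_one (congrArg Subtype.val e)
    obtain ⟨n, hn⟩ : ∃ n : L, g * x * g⁻¹ = (n : G) * x * (n : G)⁻¹ ∨
        g * x * g⁻¹ = (n : G) * x⁻¹ * (n : G)⁻¹ := by
      rcases hL.conj_of_pow_three h3 h1 with e | e <;> obtain ⟨n, hn⟩ := isConj_iff.1 e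
      · exact ⟨n, Or.inl (congrArg Subtype.val hn).symm⟩
      · exact ⟨n, Or.inr (congrArg Subtype.val hn).symm⟩
    have hmap : M.map (MulAut.conj g).toMonoidHom =
        M.map (MulAut.conj ((n : G)⁻¹ * g)).toMonoidHom := by
      have hnn := mem_normalizer_iff_map_conj_eq.1 (inv_mem n.2)
      conv_lhs => rw [← hnn]
      rw [Subgroup.map_map]
      congr 1
      ext y
      simp [mul_assoc]
    rw [hmap]
    rcases hn with hn | hn
    · left
      refine hfix _ (hx.cent _ ?_)
      calc (n : G)⁻¹ * g * x = (n : G)⁻¹ * (g * x * g⁻¹) * g := by group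
        _ = x * ((n : G)⁻¹ * g) := by rw [hn]; group
    · right
      obtain ⟨c, hc, e⟩ := hback ((n : G)⁻¹ * g) (by
        calc (n : G)⁻¹ * g * x * ((n : G)⁻¹ * g)⁻¹ = (n : G)⁻¹ * (g * x * g⁻¹) * n := by group
          _ = x⁻¹ := by rw [hn]; group)
      conv_rhs => rw [← hfix c hc]
      rw [e, Subgroup.map_map]
      congr 1
      ext y
      simp [mul_assoc]
  · have := (hM.conj t).inv
    rwa [ht, inv_inv] at this
  · intro h6
    have : Fact (Nat.Prime 2) := ⟨Nat.prime_two⟩
    set L := normalizer (M : Set G)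
    obtain ⟨S⟩ : Nonempty (Sylow 2 L) := inferInstance
    obtain ⟨a, haS, haM⟩ : ∃ a : L, a ∈ (S : Subgroup L) ∧ (a : G) ∉ M := by
      by_contra hh
      simp only [not_exists, not_and, not_not] at hh
      have hd : Nat.card S ∣ Nat.card M := by
        rw [← card_map_of_injective (f := L.subtype) L.subtype_injective (K := (S : Subgroup L))]
        refine card_dvd_of_le ?_
        rintro _ ⟨a, ha, rfl⟩
        exact hh a ha
      rw [S.card_eq_multiplicity, h6] at hd
      have := (Nat.prime_two.pow_dvd_iff_le_factorization Nat.card_pos.ne').1 hd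
      rw [Nat.factorization_mul (by norm_num) Nat.card_pos.ne', Finsupp.add_apply] at this
      have h2 : 0 < (6 : ℕ).factorization 2 :=
        Nat.Prime.factorization_pos_of_dvd Nat.prime_two (by norm_num) (by norm_num)
      omega
    obtain ⟨k, hk⟩ := S.isPGroup' ⟨a, haS⟩
    have hk' : (a : G) ^ 2 ^ k = 1 := by
      have := congrArg (fun y : (S : Subgroup L) => ((y : L) : G)) hk
      simpa using this
    obtain ⟨m, hm, e⟩ := exists_flip hx hM hG hne a.2 haM hk'
    obtain ⟨b, hb, eb⟩ := hx.inv.exists_conj (K := M) hM.1.1 (inv_mem hM.1.2) hm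
    obtain ⟨c, hc, ec⟩ := hback (b * a) (by
      calc b * a * x * (b * a)⁻¹ = b * ((a : G) * x * (a : G)⁻¹) * b⁻¹ := by group
        _ = x⁻¹ := by rw [e, eb]; group)
    refine mem_normalizer_iff_map_conj_eq.1 ?_
    rw [show t = b * a * c⁻¹ by rw [ec, mul_inv_cancel_right]]
    exact mul_mem (mul_mem (le_normalizer hb) a.2) (inv_mem (zpowers_le.2 hM.1.2 hc))
  · intro hfix'
    refine (card_normalizer hx hM hG hne).resolve_left fun h3 => ?_
    set L := normalizer (M : Set G) with hL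
    have htL : t ∈ L := mem_normalizer_iff_map_conj_eq.2 hfix'
    set K := M.subgroupOf L
    have hK : K.Normal := normal_subgroupOf_of_le_normalizer le_rfl
    have hK3 : ¬ 3 ∣ Nat.card K := by
      rw [Nat.card_congr (subgroupOfEquivOfLe le_normalizer).toEquiv]; exact hM.1.1
    have hq : SC (((⟨x, hM.1.2⟩ : L) : L ⧸ K)) := (hx.subgroup L hM.1.2).quotient hK3
    have hc3 : Nat.card (L ⧸ K) = 3 := by
      have e := K.card_eq_card_quotient_mul_card_subgroup
      rw [Nat.card_congr (subgroupOfEquivOfLe le_normalizer).toEquiv, h3] at e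
      exact (mul_right_cancel₀ Nat.card_pos.ne' e).symm
    have htop : zpowers (((⟨x, hM.1.2⟩ : L) : L ⧸ K)) = ⊤ :=
      Subgroup.eq_top_of_card_eq _ (by rw [hq.card_zpowers, hc3])
    obtain ⟨i, hi⟩ := mem_zpowers_iff.1
      (htop ▸ mem_top ((⟨t, htL⟩ : L) : L ⧸ K) : _ ∈ zpowers (((⟨x, hM.1.2⟩ : L) : L ⧸ K)))
    set xb : L ⧸ K := ((⟨x, hM.1.2⟩ : L) : L ⧸ K)
    have e1 : ((⟨t, htL⟩ : L) : L ⧸ K) * xb * ((⟨t, htL⟩ : L) : L ⧸ K)⁻¹ = xb⁻¹ := by
      show ((⟨t, htL⟩ : L) : L ⧸ K) * ((⟨x, hM.1.2⟩ : L) : L ⧸ K) * _ = _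
      rw [← QuotientGroup.mk_inv, ← QuotientGroup.mk_mul, ← QuotientGroup.mk_mul,
        show (⟨t, htL⟩ : L) * ⟨x, hM.1.2⟩ * (⟨t, htL⟩ : L)⁻¹ = (⟨x, hM.1.2⟩ : L)⁻¹ from Subtype.ext ht]
      rfl
    rw [← hi, show xb ^ i * xb * (xb ^ i)⁻¹ = xb by group] at e1
    have : orderOf xb ∣ 2 := orderOf_dvd_of_pow_eq_one (by rw [pow_two, ← eq_inv_iff_mul_eq_one]; exact e1)
    rw [hq.ord] at this
    norm_num at this

theorem odd_conj {M' : Subgroup G} (hM' : MaxInv x M') (hne' : M' ≠ ⊥) {p : ℕ} (hp : p.Prime)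
    (hp2 : p ≠ 2) (hd : p ∣ Nat.card M) (hd' : p ∣ Nat.card M') : IsConjSub M M' := by
  have : Fact p.Prime := ⟨hp⟩
  obtain ⟨S, hS⟩ := (isPGroup_pPart (p := p) M).exists_le_sylow
  obtain ⟨S', hS'⟩ := (isPGroup_pPart (p := p) M').exists_le_sylow
  have e : ∀ {K : Subgroup G}, MaxInv x K → K ≠ ⊥ → p ∣ Nat.card K → ∀ {T : Sylow p G},
      pPart p K ≤ T → pPart p K = T := by
    intro K hK hKne hKd T hT
    refine eq_of_le_of_card_ge hT ?_
    rw [card_pPart, T.card_eq_multiplicity, factorization_eq hx hK hG hKne hKd (Or.inl hp2)]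
  obtain ⟨g, hg⟩ := MulAction.exists_smul_eq G S S'
  refine ⟨g, (eq_map_of_pPart (p := p) hx hM hG hne hx hM' hne' hd hd' g ?_).symm⟩
  rw [e hM' hne' hd' hS', e hM hne hd hS, ← hg, Sylow.coe_subgroup_smul]
  rfl

omit hM hne
variable (hinv : IsConj x x⁻¹)
include hinv

theorem six_dvd_and : 6 ∣ Nat.card G ∧ (Nat.card G / 6) % 3 = 1 := by
  have : Fact (Nat.Prime 3) := ⟨Nat.prime_three⟩
  obtain ⟨P, hP⟩ := hx.exists_sylow
  obtain ⟨t, ht⟩ := isConj_iff.1 hinv
  have hN : Nat.card (normalizer ((zpowers x : Subgroup G) : Set G)) = 6 := by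
    set L := normalizer ((zpowers x : Subgroup G) : Set G) with hL
    have htL : t ∈ L := by
      rw [hL, mem_normalizer_iff_map_conj_eq]
      show (zpowers x).map (MulAut.conj t).toMonoidHom = zpowers x
      rw [MonoidHom.map_zpowers, show (MulAut.conj t).toMonoidHom x = x⁻¹ from ht, zpowers_inv]
    have hxL : x ∈ L := le_normalizer (mem_zpowers x)
    let T : Subgroup L := (zpowers x).subgroupOf L
    have hidx : T.index = 2 := by
      rw [index_eq_two_iff]
      refine ⟨⟨t, htL⟩, fun b => ?_⟩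
      have key : ∀ g : G, g ∈ L → (g ∈ zpowers x ↔ ¬ g * t ∈ zpowers x) := by
        intro g hg
        constructor
        · intro hgx hgt
          have htx : t ∈ zpowers x := by simpa using mul_mem (inv_mem hgx) hgt
          obtain ⟨i, rfl⟩ := mem_zpowers_iff.1 htx
          have : x⁻¹ = x := by rw [← ht]; group
          have : orderOf x ∣ 2 := orderOf_dvd_of_pow_eq_one (by
            rw [pow_two, ← eq_inv_iff_mul_eq_one]; exact this.symm)
          rw [hx.ord] at this
          norm_num at this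
        · intro hgt
          rcases hx.normalizer_cases hg with e | e
          · exact hx.cent g (mul_inv_eq_iff_eq_mul.1 e)
          · exfalso
            refine hgt (hx.cent _ ?_)
            calc g * t * x = g * (t * x * t⁻¹) * t := by group
              _ = g * x⁻¹ * g⁻¹ * (g * t) := by rw [ht]; group
              _ = x * (g * t) := by
                rw [show g * x⁻¹ * g⁻¹ = (g * x * g⁻¹)⁻¹ by group, e, inv_inv]
      simp only [T, mem_subgroupOf, Subgroup.coe_mul]
      by_cases hb : (b : G) ∈ zpowers x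
      · exact Or.inr ⟨hb, fun h => (key b b.2).1 hb h⟩
      · exact Or.inl ⟨by by_contra h; exact hb ((key b b.2).2 h), hb⟩
    have := T.card_mul_index
    rw [hidx, Nat.card_congr (subgroupOfEquivOfLe le_normalizer).toEquiv, hx.card_zpowers] at this
    exact this.symm
  have h1 := card_sylow_modEq_one 3 G
  have hPs : (P : Set G) = ((zpowers x : Subgroup G) : Set G) := by rw [← hP]; rfl
  rw [P.card_eq_index_normalizer, hPs] at h1
  have h2 := (normalizer ((zpowers x : Subgroup G) : Set G)).card_mul_index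
  rw [hN] at h2
  refine ⟨⟨_, h2.symm⟩, ?_⟩
  rw [← h2, Nat.mul_div_cancel_left _ (by norm_num)]
  exact h1

theorem ne_bot_of_maxInv {K : Subgroup G} (hK : MaxInv x K) : K ≠ ⊥ := by
  intro e
  subst e
  have hU : Nat.card {a : G // ∃ A : Subgroup G, Inv x A ∧ a ∈ A} ≤ 1 := by
    rw [Finite.card_le_one_iff_subsingleton]
    refine ⟨fun ⟨a, A, hA, ha⟩ ⟨b, B, hB, hb⟩ => ?_⟩
    have eA := hK.2 A hA bot_le
    have eB := hK.2 B hB bot_le
    subst eA eB
    exact Subtype.ext ((mem_bot.1 ha).trans (mem_bot.1 hb).symm)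
  have := card_lt_nine_mul hx hinv
  obtain ⟨⟨k, hk⟩, -⟩ := six_dvd_and hG hx hinv
  have hG6 : Nat.card G = 6 := by
    have := Nat.card_pos (α := G)
    omega
  have hidx : (zpowers x).index = 2 := by
    have := (zpowers x).card_mul_index
    rw [hx.card_zpowers, hG6] at this
    omega
  have := hG.simple
  rcases (normal_of_index_eq_two hidx).eq_bot_or_eq_top with e | e
  · exact hx.ne_one (zpowers_eq_bot.1 e)
  · rw [e, index_top] at hidx; omega

/-- Representatives of the classes other than that of a largest maximal invariant subgroup. -/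
theorem exists_reps : ∃ (M₀ : Subgroup G) (S : Finset (Subgroup G)) (w : Subgroup G → ℕ),
    MaxInv x M₀ ∧ (∀ K ∈ S, MaxInv x K ∧ Nat.card K ≤ Nat.card M₀ ∧ ¬ IsConjSub M₀ K) ∧
    (∀ K ∈ S, ∀ K' ∈ S, K ≠ K' → ¬ IsConjSub K K') ∧
    (∀ K, MaxInv x K → Nat.card (normalizer (K : Set G)) * w K = 6 * Nat.card K ∧ 1 ≤ w K ∧ w K ≤ 2) ∧
    Nat.card G < 9 * (1 + w M₀ * (Nat.card M₀ - 1) + ∑ K ∈ S, w K * (Nat.card K - 1)) := by
  classical
  have : Fact (Nat.Prime 2) := ⟨Nat.prime_two⟩
  have := Fintype.ofFinite (Subgroup G)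
  obtain ⟨t, ht⟩ := isConj_iff.1 hinv
  set Ms := (Finset.univ : Finset (Subgroup G)).filter (MaxInv x) with hMs
  have hmem : ∀ K, K ∈ Ms ↔ MaxInv x K := fun K => by simp [hMs]
  obtain ⟨M₁, hM₁, -⟩ := Inv.exists_maxInv (x := x) (A := ⊥)
    ⟨by rw [Subgroup.card_bot]; norm_num,
      by
        refine mem_normalizer_fintype fun n hn => ?_
        rw [mem_bot.1 hn]; simp⟩
  obtain ⟨M₀, hM₀, hmax⟩ := Ms.exists_max_image (fun K => Nat.card K) ⟨M₁, (hmem _).2 hM₁⟩
  let cl : Subgroup G → Finset (Subgroup G) := fun K => Ms.filter (IsConjSub K)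
  let w : Subgroup G → ℕ := fun K =>
    if Nat.card (normalizer (K : Set G)) = 6 * Nat.card K then 1 else 2
  have hw : ∀ K ∈ Ms, (cl K).card = w K := by
    intro K hK
    have hK' := (hmem K).1 hK
    obtain ⟨h1, h2, h3⟩ := conj_class hG hx hK' (ne_bot_of_maxInv hG hx hinv hK') t ht
    have hcl : cl K = {K, K.map (MulAut.conj t).toMonoidHom} := by
      ext K'
      simp only [cl, Finset.mem_filter, hmem, Finset.mem_insert, Finset.mem_singleton]
      constructor
      · exact fun ⟨a, b⟩ => h1 K' a b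
      · rintro (rfl | rfl)
        exacts [⟨hK', IsConjSub.refl _⟩, ⟨h2, t, rfl⟩]
    rw [hcl]
    by_cases h6 : Nat.card (normalizer (K : Set G)) = 6 * Nat.card K
    · rw [h3.1 h6]; simp [w, h6]
    · rw [Finset.card_pair (fun e => h6 (h3.2 e.symm))]; simp [w, h6]
  let R := (Ms.image cl).erase (cl M₀)
  let rep : Finset (Subgroup G) → Subgroup G := fun c => if h : c.Nonempty then h.choose else M₀
  have hclK : ∀ K ∈ Ms, K ∈ cl K := fun K hK => Finset.mem_filter.2 ⟨hK, IsConjSub.refl K⟩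
  have hrep : ∀ c ∈ Ms.image cl, rep c ∈ c ∧ rep c ∈ Ms ∧ cl (rep c) = c := by
    intro c hc
    obtain ⟨K, hK, rfl⟩ := Finset.mem_image.1 hc
    have hne : (cl K).Nonempty := ⟨K, hclK K hK⟩
    have h1 : rep (cl K) ∈ cl K := by simp only [rep, dif_pos hne]; exact hne.choose_spec
    obtain ⟨h2, h3⟩ := Finset.mem_filter.1 h1
    refine ⟨h1, h2, ?_⟩
    ext K'
    simp only [cl, Finset.mem_filter]
    exact ⟨fun ⟨a, b⟩ => ⟨a, h3.trans b⟩, fun ⟨a, b⟩ => ⟨a, h3.symm.trans b⟩⟩
  have hrR : ∀ c ∈ R, rep c ∈ c ∧ rep c ∈ Ms ∧ cl (rep c) = c := fun c hc =>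
    hrep c (Finset.mem_of_mem_erase hc)
  have hcl_eq : ∀ K K', IsConjSub K K' → cl K = cl K' := fun K K' h => by
    ext K''
    simp only [cl, Finset.mem_filter]
    exact ⟨fun ⟨a, b⟩ => ⟨a, h.symm.trans b⟩, fun ⟨a, b⟩ => ⟨a, h.trans b⟩⟩
  refine ⟨M₀, R.image rep, w, (hmem _).1 hM₀, ?_, ?_, ?_, ?_⟩
  · intro K hK
    obtain ⟨c, hc, rfl⟩ := Finset.mem_image.1 hK
    obtain ⟨-, h2, h3⟩ := hrR c hc
    refine ⟨(hmem _).1 h2, hmax _ h2, fun hcj => Finset.ne_of_mem_erase hc ?_⟩
    rw [← h3, hcl_eq _ _ hcj]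
  · intro K hK K' hK' hne hcj
    obtain ⟨c, hc, rfl⟩ := Finset.mem_image.1 hK
    obtain ⟨c', hc', rfl⟩ := Finset.mem_image.1 hK'
    exact hne (by rw [← (hrR c hc).2.2, ← (hrR c' hc').2.2, hcl_eq _ _ hcj])
  · intro K hK
    have hne := ne_bot_of_maxInv hG hx hinv hK
    by_cases h6 : Nat.card (normalizer (K : Set G)) = 6 * Nat.card K
    · simp [w, h6]
    · have := (card_normalizer hx hK hG hne).resolve_right h6
      simp only [w, h6, if_false]
      omega
  · refine lt_of_lt_of_le (card_lt_nine_mul hx hinv) (Nat.mul_le_mul_left 9 ?_)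
    -- the union of the maximal subgroups
    have := Fintype.ofFinite G
    let B : Finset G := Ms.biUnion fun K => (Finset.univ.filter (· ∈ K)).erase 1
    have hU : Nat.card {a : G // ∃ A : Subgroup G, Inv x A ∧ a ∈ A} ≤ B.card + 1 := by
      refine le_trans ?_ (Finset.card_insert_le 1 B)
      rw [Nat.card_eq_fintype_card, Fintype.card_subtype]
      refine Finset.card_le_card fun a ha => ?_
      obtain ⟨A, hA, haA⟩ := (Finset.mem_filter.1 ha).2
      obtain ⟨K, hK, hAK⟩ := hA.exists_maxInv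
      rw [Finset.mem_insert]
      by_cases ha1 : a = 1
      · exact Or.inl ha1
      · exact Or.inr (Finset.mem_biUnion.2 ⟨K, (hmem K).2 hK,
          Finset.mem_erase.2 ⟨ha1, Finset.mem_filter.2 ⟨Finset.mem_univ a, hAK haA⟩⟩⟩)
    have hB : B.card ≤ ∑ K ∈ Ms, (Nat.card K - 1) := by
      refine Finset.card_biUnion_le.trans (le_of_eq (Finset.sum_congr rfl fun K _ => ?_))
      rw [Finset.card_erase_of_mem (by simp), Nat.card_eq_fintype_card, Fintype.card_subtype]
    have hsum : ∑ K ∈ Ms, (Nat.card K - 1) =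
        w M₀ * (Nat.card M₀ - 1) + ∑ K ∈ R.image rep, w K * (Nat.card K - 1) := by
      have hblock : ∀ c ∈ Ms.image cl, (∑ K ∈ Ms.filter (fun K => cl K = c), (Nat.card K - 1)) =
          w (rep c) * (Nat.card (rep c) - 1) := by
        intro c hc
        obtain ⟨h1, h2, h3⟩ := hrep c hc
        have hf : Ms.filter (fun K => cl K = c) = cl (rep c) := by
          rw [h3]
          ext K
          simp only [Finset.mem_filter]
          constructor
          · rintro ⟨hK, rfl⟩; exact hclK K hK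
          · intro hK
            rw [← h3] at hK
            obtain ⟨hK1, hK2⟩ := Finset.mem_filter.1 hK
            exact ⟨hK1, by rw [← hcl_eq _ _ hK2, h3]⟩
        rw [hf, Finset.sum_congr rfl (g := fun _ => Nat.card (rep c) - 1), Finset.sum_const,
          hw _ h2, smul_eq_mul]
        intro K hK
        rw [← ((Finset.mem_filter.1 hK).2).card_eq]
      rw [← Finset.sum_fiberwise_of_maps_to (g := cl) (fun K hK => Finset.mem_image_of_mem cl hK),
        Finset.sum_congr rfl hblock, ← Finset.add_sum_erase _ _ (Finset.mem_image_of_mem cl hM₀),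
        Finset.sum_image (fun c hc c' hc' e => by rw [← (hrR c hc).2.2, ← (hrR c' hc').2.2, e])]
      congr 1
      obtain ⟨h1, h2, h3⟩ := hrep _ (Finset.mem_image_of_mem cl hM₀)
      have hc : IsConjSub M₀ (rep (cl M₀)) := (Finset.mem_filter.1 h1).2
      rw [← hc.card_eq, ← hw _ h2, ← hw _ hM₀, h3]
    omega

end Cfsg.Agent.Lib.Spectrum.SelfThree
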